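import Cfsg.Agent.Lib.Helper5.AutDM.RowClear
import Cfsg.Agent.Lib.Helper5.AutDO.BN3
import Mathlib

/-!
# `Ω⁻_{2κ+4}(F)`: the subgroups of the model (helper5)

The model `G0` of lead's `MC N F K` as a type `Mm C`, its subgroups `BM`, `UM`, `VM`, `TM`
(upper triangular, upper unitriangular, lower unitriangular, diagonal elements), the
decomposition `B = U T` (from the twisted row clearing), the permutation of a monomial element
of the model commutes with the mirror and with the swap of the two middle coordinates.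
-/

set_option autoImplicit false

namespace Cfsg.Agent.Lib.Helper5.AutDM

open Matrix Cfsg Cfsg.Agent.Lib.Helper5.GLBN Cfsg.Agent.Lib.Helper8.SpBN
open Cfsg.Agent.Lib.Helper8.Tw Cfsg.Agent.PSUT Cfsg.Agent.Lib.Helper5.AutSU
open Cfsg.Agent.Lib.Helper5.AutDO Cfsg.Agent.AutPM
open Cfsg.Agent.AutPSU (upT loT dgT moT Quad)
open Cfsg.Agent.AutPO (sO fO tO)
open scoped MatrixGroups

variable {N : ℕ} {F K : Type*} [Field F] [Field K] [Fintype K]

/-- the model, as a type -/
abbrev Mm (C : MC N F K) : Type _ := ↥C.G0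

/-- the upper triangular elements of the model -/
noncomputable def BM (C : MC N F K) : Subgroup (Mm C) := (BB N K (RingHom.id K)).subgroupOf C.G0

/-- the upper unitriangular elements of the model -/
noncomputable def UM (C : MC N F K) : Subgroup (Mm C) := (UU N K (RingHom.id K)).subgroupOf C.G0

/-- the lower unitriangular elements of the model -/
noncomputable def VM (C : MC N F K) : Subgroup (Mm C) := (VV N K (RingHom.id K)).subgroupOf C.G0

/-- the diagonal elements of the model -/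
noncomputable def TM (C : MC N F K) : Subgroup (Mm C) := (TT N K (RingHom.id K)).subgroupOf C.G0

variable (C : MC N F K)

theorem mem_BM {g : Mm C} :
    g ∈ BM C ↔ (g : SUm N K (RingHom.id K)) ∈ BB N K (RingHom.id K) := Iff.rfl

theorem mem_UM {g : Mm C} :
    g ∈ UM C ↔ (g : SUm N K (RingHom.id K)) ∈ UU N K (RingHom.id K) := Iff.rfl

theorem mem_VM {g : Mm C} :
    g ∈ VM C ↔ (g : SUm N K (RingHom.id K)) ∈ VV N K (RingHom.id K) := Iff.rfl

theorem mem_TM {g : Mm C} :
    g ∈ TM C ↔ (g : SUm N K (RingHom.id K)) ∈ TT N K (RingHom.id K) := Iff.rfl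

theorem UM_le_BM : UM C ≤ BM C := fun _ hg => UU_le_BB hg

theorem TM_le_BM : TM C ≤ BM C := by
  intro g hg
  rw [mem_BM, mem_BB]
  intro a b hba
  exact mem_TT.1 ((mem_TM C).1 hg) a b (ne_of_gt hba)

/-- the underlying matrix of an element of the model -/
def gm (g : Mm C) : GL (Fin N) K := gl (g : SUm N K (RingHom.id K))

theorem gm_mul (g h : Mm C) : gm C (g * h) = gm C g * gm C h := gl_mul _ _

theorem gm_inv (g : Mm C) : gm C g⁻¹ = (gm C g)⁻¹ := gl_inv _

theorem gm_mem_UH (g : Mm C) : gm C g ∈ UH N K (RingHom.id K) := gl_mem_UH _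

theorem isQ_gm (g : Mm C) : IsQ ((gm C g : GL (Fin N) K) : Matrix (Fin N) (Fin N) K) :=
  mem_OD.1 (C.G0_le_OD g.2)

/-- the entries of an element of the model under the conjugation -/
theorem gm_cj (g : Mm C) (a b : Fin N) :
    C.cj (((gm C g : GL (Fin N) K) : Matrix (Fin N) (Fin N) K) a b)
      = ((gm C g : GL (Fin N) K) : Matrix (Fin N) (Fin N) K) (C.D.tau a) (C.D.tau b) :=
  C.ThFix_apply (C.G0_le_ThFix g.2) a b

/-- the permutation of a monomial element of the model commutes with the mirror -/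
theorem perm_rev {ν : Mm C} {π : Equiv.Perm (Fin N)}
    (hν : IsMono ((gm C ν : GL (Fin N) K) : Matrix (Fin N) (Fin N) K) π) (x : Fin N) :
    π x.rev = (π x).rev :=
  (revC_eq_self_iff π).1 (Cfsg.Agent.RootBN.revC_of_mem_UH (gm_mem_UH C ν) hν) x

/-- the permutation of a monomial element of the model commutes with the swap of the two middle
coordinates -/
theorem perm_tau {ν : Mm C} {π : Equiv.Perm (Fin N)}
    (hν : IsMono ((gm C ν : GL (Fin N) K) : Matrix (Fin N) (Fin N) K) π) (x : Fin N) :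
    π (C.D.tau x) = C.D.tau (π x) := by
  by_contra hne
  have h1 := hν (C.D.tau (π x)) (C.D.tau x) (fun e => hne e.symm)
  rw [← gm_cj] at h1
  have h2 := hν.apply_ne_zero x
  apply h2
  have h3 : C.cj (((gm C ν : GL (Fin N) K) : Matrix (Fin N) (Fin N) K) (π x) x) = C.cj 0 := by
    rw [h1, map_zero]
  exact C.cj.injective h3

/-- `B = U T` -/
theorem exists_UT {b : Mm C} (hb : b ∈ BM C) : ∃ u ∈ UM C, ∃ t ∈ TM C, b = u * t := by
  have hbu : gl (b : SUm N K (RingHom.id K)) ∈ upperTriangularGL N K := hb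
  have hbU : gl (b : SUm N K (RingHom.id K)) ∈ UH N K (RingHom.id K) := gl_mem_UH _
  have hdU := dgOf_mem_UH hbu hbU
  have huT := mem_UT_mul_dgOf_inv hbu
  have huU : gl (b : SUm N K (RingHom.id K)) * (dgOf _ hbu)⁻¹ ∈ UH N K (RingHom.id K) :=
    mul_mem hbU (inv_mem hdU)
  have hdet : ((gl (b : SUm N K (RingHom.id K)) * (dgOf _ hbu)⁻¹ : GL (Fin N) K) :
      Matrix (Fin N) (Fin N) K).det = 1 :=
    det_of_isUpU ⟨mem_upper.1 huT.1, huT.2⟩
  set u0 : SUm N K (RingHom.id K) := mk1 _ huU hdet with hu0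
  have hu0U : u0 ∈ UU N K (RingHom.id K) := mem_UU_iff_UT.2 huT
  have hQd : IsQ (((dgOf _ hbu)⁻¹ : GL (Fin N) K) : Matrix (Fin N) (Fin N) K) := by
    apply (isQ_dgOf hbu hbU).of_mul_eq_one
    rw [← Units.val_mul, mul_inv_cancel, Units.val_one]
  have hu0Q : u0 ∈ OD N K := by
    rw [mem_OD, hu0, gl_mk1, Units.val_mul]
    exact (isQ_gm C b).mul hQd
  have hu0T : u0 ∈ C.ThFix := by
    rw [C.mem_ThFix_iff]
    intro a c
    rw [hu0, gl_mk1, Units.val_mul, dgOf_inv_coe, Matrix.mul_diagonal, Matrix.mul_diagonal,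
      map_mul, map_inv₀]
    have h1 := gm_cj C b a c
    have h2 := gm_cj C b c c
    unfold gm at h1 h2
    rw [h1, h2]
  have hu0G : u0 ∈ C.G0 := UM_le_G0 C ⟨hu0U, hu0T, hu0Q⟩
  refine ⟨⟨u0, hu0G⟩, hu0U, (⟨u0, hu0G⟩ : Mm C)⁻¹ * b, ?_, by group⟩
  rw [mem_TM]
  apply mem_TT_of_isMono
  have e : gl (((⟨u0, hu0G⟩ : Mm C)⁻¹ * b : Mm C) : SUm N K (RingHom.id K))
      = dgOf _ hbu := by
    show gl (u0⁻¹ * (b : SUm N K (RingHom.id K))) = _
    rw [gl_mul, gl_inv, hu0, gl_mk1]
    group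
  rw [e]
  exact isMono_dgOf _ hbu

end Cfsg.Agent.Lib.Helper5.AutDM
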