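import Cfsg.Agent.Lib.Helper5.AutDM.BN1
import Mathlib

/-!
# `Ω⁻_{2κ+4}(F)`: the nodes of the model (helper5)

The node homomorphisms `sMm j : SL₂(F) →* Mm` (`j < κ`) and `tMm : SL₂(K) →* Mm` into the model,
the representatives `nC j`, `nTm` of the reflections, the fundamental root subgroups `XC j`, `XT`,
and the facts of the nodes needed for the `(B, N)`-pair: the splitting `U = X_i U_i`, rank one,
the dichotomy for monomial elements.
-/

set_option autoImplicit false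

namespace Cfsg.Agent.Lib.Helper5.AutDM

open Matrix Cfsg Cfsg.Agent.Lib.Helper5.GLBN Cfsg.Agent.Lib.Helper8.SpBN
open Cfsg.Agent.Lib.Helper8.Tw Cfsg.Agent.PSUT Cfsg.Agent.Lib.Helper5.AutSU
open Cfsg.Agent.Lib.Helper5.AutDO Cfsg.Agent.AutPM
open Cfsg.Agent.AutPSU (upT loT dgT moT Quad)
open Cfsg.Agent.AutPO (sO fO tO)
open DoubleCoset
open scoped MatrixGroups

section sl2

variable {k : Type*} [Field k] {G : Type*} [Group G]

/-- the rank one decomposition in the image of `SL₂` -/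
theorem sl2_rank_one (φ : Matrix.SpecialLinearGroup (Fin 2) k →* G) (B : Subgroup G)
    (hu : ∀ t, φ (upT t) ∈ B) (hd : ∀ (a : k) (ha : a ≠ 0), φ (dgT a ha) ∈ B) (t : k) :
    φ (moT 1 one_ne_zero) * φ (upT t) * (φ (moT 1 one_ne_zero))⁻¹ ∈ B ∨
      φ (moT 1 one_ne_zero) * φ (upT t) * (φ (moT 1 one_ne_zero))⁻¹ ∈
        doubleCoset (φ (moT 1 one_ne_zero)) (B : Set G) (B : Set G) := by
  rw [← map_inv, ← map_mul, ← map_mul, moT_one_conj_upT]
  by_cases ht : t = 0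
  · left
    rw [ht, neg_zero, Cfsg.Agent.AutPSU.loT_zero, map_one]
    exact one_mem _
  · right
    have hc : -t ≠ 0 := neg_ne_zero.2 ht
    rw [mem_doubleCoset, loT_bruhat (-t) hc]
    refine ⟨φ (upT (-t)⁻¹), hu _, φ (dgT (- -t) (neg_ne_zero.2 hc)) * φ (upT (-t)⁻¹),
      mul_mem (hd _ _) (hu _), ?_⟩
    rw [map_mul, map_mul, map_mul]
    group

/-- the conjugate of a root element by the monomial element does not lie in `B` -/
theorem sl2_nondeg (φ : Matrix.SpecialLinearGroup (Fin 2) k →* G) (B : Subgroup G)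
    (hu : ∀ t, φ (upT t) ∈ B) (hd : ∀ (a : k) (ha : a ≠ 0), φ (dgT a ha) ∈ B)
    (hn : φ (moT 1 one_ne_zero) ∉ B) :
    φ (moT 1 one_ne_zero) * φ (upT 1) * (φ (moT 1 one_ne_zero))⁻¹ ∉ B := by
  have hc : (-1 : k) ≠ 0 := neg_ne_zero.2 one_ne_zero
  rw [← map_inv, ← map_mul, ← map_mul, moT_one_conj_upT, loT_bruhat (-1) hc, map_mul, map_mul,
    map_mul]
  intro h
  apply hn
  have e : φ (moT 1 one_ne_zero) = (φ (upT (-1 : k)⁻¹))⁻¹ *
      (φ (upT (-1 : k)⁻¹) * φ (moT 1 one_ne_zero) * φ (dgT (- -1) (neg_ne_zero.2 hc))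
        * φ (upT (-1 : k)⁻¹)) * (φ (upT (-1 : k)⁻¹))⁻¹
      * (φ (dgT (- -1) (neg_ne_zero.2 hc)))⁻¹ := by group
  rw [e]
  exact mul_mem (mul_mem (mul_mem (inv_mem (hu _)) h) (inv_mem (hu _))) (inv_mem (hd _ _))

end sl2

variable {N : ℕ} {F K : Type*} [Field F] [Field K] [Fintype K] (C : MC N F K)

/-- the chain node homomorphisms, into the model -/
noncomputable def sMm (j : ℕ) (hj : j < C.κ) : Matrix.SpecialLinearGroup (Fin 2) F →* Mm C :=
  (C.sM j hj).codRestrict C.G0 (C.sM_mem_G0 j hj)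

/-- the twisted node homomorphism, into the model -/
noncomputable def tMm : Matrix.SpecialLinearGroup (Fin 2) K →* Mm C :=
  C.tM.codRestrict C.G0 C.tM_mem_G0

theorem sMm_coe (j : ℕ) (hj : j < C.κ) (x : Matrix.SpecialLinearGroup (Fin 2) F) :
    ((sMm C j hj x : Mm C) : SUm N K (RingHom.id K)) = C.sM j hj x := rfl

theorem tMm_coe (x : Matrix.SpecialLinearGroup (Fin 2) K) :
    ((tMm C x : Mm C) : SUm N K (RingHom.id K)) = C.tM x := rfl

/-- the representative of the reflection of a chain node -/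
noncomputable def nC (j : ℕ) (hj : j < C.κ) : Mm C := sMm C j hj (moT 1 one_ne_zero)

/-- the representative of the reflection of the twisted node -/
noncomputable def nTm : Mm C := tMm C (moT 1 one_ne_zero)

theorem nC_coe (j : ℕ) (hj : j < C.κ) :
    ((nC C j hj : Mm C) : SUm N K (RingHom.id K)) = nS j (C.hj_of_lt hj) := sM_moT C j hj

theorem nTm_coe : ((nTm C : Mm C) : SUm N K (RingHom.id K)) = nT C := rfl

theorem isMono_nC (j : ℕ) (hj : j < C.κ) :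
    IsMono ((gm C (nC C j hj) : GL (Fin N) K) : Matrix (Fin N) (Fin N) K) (rho N j) := by
  unfold gm
  rw [nC_coe]
  exact isMono_nS j _

theorem isMono_nTm :
    IsMono ((gm C (nTm C) : GL (Fin N) K) : Matrix (Fin N) (Fin N) K) (rhoT C) := isMono_nT C

/-- the positive root elements of a chain node -/
theorem sMm_upT_coe (j : ℕ) (hj : j < C.κ) (t : F) :
    ((sMm C j hj (upT t) : Mm C) : SUm N K (RingHom.id K))
      = xpS idinv j (C.hj_of_lt hj) (C.ι t) := by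
  rw [sMm_coe, C.sM_upT]
  rfl

/-- the positive root elements of the twisted node -/
theorem tMm_upT_coe (s : K) :
    ((tMm C (upT s) : Mm C) : SUm N K (RingHom.id K)) = C.tw (C.NM_ia C.κ le_rfl) s := by
  rw [tMm_coe, C.tM_upT]

/-- the positive root subgroup of a chain node -/
noncomputable def XC (j : ℕ) : Subgroup (Mm C) := (Xp N K (RingHom.id K) j).subgroupOf C.G0

theorem mem_XC {j : ℕ} {g : Mm C} :
    g ∈ XC C j ↔ (g : SUm N K (RingHom.id K)) ∈ Xp N K (RingHom.id K) j := Iff.rfl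

theorem mem_XC_iff {j : ℕ} (hj : j < C.κ) {g : Mm C} :
    g ∈ XC C j ↔ ∃ t : F, g = sMm C j hj (upT t) := by
  rw [mem_XC, mem_Xp_short_iff idinv (C.hj_of_lt hj)]
  constructor
  · rintro ⟨c, hc⟩
    have e1 : (xpS idinv j (C.hj_of_lt hj) c : SUm N K (RingHom.id K))
        = xQ (C.quadC j hj) c := rfl
    have hent : ((gl (xQ (C.quadC j hj) c) : GL (Fin N) K) : Matrix (Fin N) (Fin N) K)
        (C.ia j (le_of_lt hj)) (C.ia (j + 1) hj) = c := by
      rw [gl_xQ]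
      exact xS_apply_self _ _ _ _ (C.quadC j hj).h11 (fun e => (C.quadC j hj).h01 e.symm) c
    have hfix : C.cj c = c := by
      have h3 := gm_cj C g (C.ia j (le_of_lt hj)) (C.ia (j + 1) hj)
      unfold gm at h3
      rw [C.NM_ia j (le_of_lt hj), C.NM_ia (j + 1) hj, hc, e1, hent] at h3
      exact h3
    obtain ⟨t, rfl⟩ := C.hfix c hfix
    refine ⟨t, Subtype.ext ?_⟩
    rw [hc, sMm_upT_coe]
  · rintro ⟨t, rfl⟩
    exact ⟨C.ι t, sMm_upT_coe C j hj t⟩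

/-- the positive root subgroup of the twisted node -/
noncomputable def XT : Subgroup (Mm C) where
  carrier := {g | ∃ s : K, g = tMm C (upT s)}
  mul_mem' := by
    rintro a b ⟨s, rfl⟩ ⟨u, rfl⟩
    exact ⟨s + u, by rw [Cfsg.Agent.AutPSU.upT_add, map_mul]⟩
  one_mem' := ⟨0, by rw [Cfsg.Agent.AutPSU.upT_zero, map_one]⟩
  inv_mem' := by
    rintro a ⟨s, rfl⟩
    exact ⟨-s, by rw [← Cfsg.Agent.AutPSU.upT_inv, map_inv]⟩

theorem mem_XT {g : Mm C} : g ∈ XT C ↔ ∃ s : K, g = tMm C (upT s) := Iff.rfl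

theorem XC_le_UM (j : ℕ) : XC C j ≤ UM C := fun _ hg => Xp_le_UU j hg

/-- a short root element of the twisted group at a coordinate of the first half is
unitriangular -/
theorem tw_mem_UU {a : Fin N} (ha : C.NM a) (h1 : a < C.D.p1) (s : K) :
    C.tw ha s ∈ UU N K (RingHom.id K) := by
  have h2 : a < C.D.p1.rev := by
    refine lt_trans h1 ?_
    rw [Fin.lt_def, C.D.p1_val, C.D.p1_rev_val]
    omega
  rw [mem_UU]
  unfold MC.tw
  rw [gl_mul, Units.val_mul, gl_xQ, gl_xQ]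
  exact (xS_isUpU h1 s).mul (xS_isUpU h2 _)

theorem ia_lt_p1 : C.ia C.κ le_rfl < C.D.p1 := by
  rw [Fin.lt_def, C.D.p1_val, MC.ia_val]
  exact Nat.lt_succ_self _

theorem tMm_upT_mem_UM (s : K) : tMm C (upT s) ∈ UM C := by
  rw [mem_UM, tMm_upT_coe]
  exact tw_mem_UU C _ (ia_lt_p1 C) s

theorem XT_le_UM : XT C ≤ UM C := by
  rintro g ⟨s, rfl⟩
  exact tMm_upT_mem_UM C s

theorem sMm_upT_mem_UM (j : ℕ) (hj : j < C.κ) (t : F) : sMm C j hj (upT t) ∈ UM C :=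
  XC_le_UM C j ((mem_XC_iff C hj).2 ⟨t, rfl⟩)

/-! ### the torus elements -/

theorem sMm_dgT_mem_TM (j : ℕ) (hj : j < C.κ) (a : F) (ha : a ≠ 0) :
    sMm C j hj (dgT a ha) ∈ TM C := by
  rw [mem_TM, sMm_coe, MC.sM_apply, Cfsg.Agent.AutPO.map_dgT]
  exact hS_mem_TT j (C.hj_of_lt hj) _ _

theorem fO_dgT_mem_TT (a : K) (ha : a ≠ 0) :
    fO C.κ C.hN (dgT a ha) ∈ TT N K (RingHom.id K) := by
  rw [mem_TT]
  intro x y hxy
  have e : gl (fO C.κ C.hN (dgT a ha) : SUm N K (RingHom.id K))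
      = Cfsg.Agent.AutPSU.shortGL (RingHom.id K) (Cfsg.Agent.AutPO.forkQuad C.κ C.hN)
        (dgT a ha) := rfl
  rw [e, Cfsg.Agent.AutPSU.shortGL_dgT, Cfsg.Agent.Lib.Helper8.AutSp.dgU_coe,
    Matrix.diagonal_apply_ne _ hxy]

theorem tMm_dgT_mem_TM (a : K) (ha : a ≠ 0) : tMm C (dgT a ha) ∈ TM C := by
  rw [mem_TM, tMm_coe, MC.tM_apply]
  refine mul_mem (hS_mem_TT C.κ C.hκN _ _) ?_
  unfold MC.cjS
  rw [Cfsg.Agent.AutPO.map_dgT]
  exact fO_dgT_mem_TT C _ _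

/-! ### rank one -/

theorem chain_rank_one {j : ℕ} (hj : j < C.κ) (x : Mm C) (hx : x ∈ XC C j) :
    nC C j hj * x * (nC C j hj)⁻¹ ∈ BM C ∨
      nC C j hj * x * (nC C j hj)⁻¹ ∈
        doubleCoset (nC C j hj) (BM C : Set (Mm C)) (BM C : Set (Mm C)) := by
  obtain ⟨t, rfl⟩ := (mem_XC_iff C hj).1 hx
  exact sl2_rank_one (sMm C j hj) (BM C) (fun t => UM_le_BM C (sMm_upT_mem_UM C j hj t))
    (fun a ha => TM_le_BM C (sMm_dgT_mem_TM C j hj a ha)) t

theorem twist_rank_one (x : Mm C) (hx : x ∈ XT C) :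
    nTm C * x * (nTm C)⁻¹ ∈ BM C ∨
      nTm C * x * (nTm C)⁻¹ ∈
        doubleCoset (nTm C) (BM C : Set (Mm C)) (BM C : Set (Mm C)) := by
  obtain ⟨s, rfl⟩ := hx
  exact sl2_rank_one (tMm C) (BM C) (fun t => UM_le_BM C (tMm_upT_mem_UM C t))
    (fun a ha => TM_le_BM C (tMm_dgT_mem_TM C a ha)) s

theorem rho_ne_one (j : ℕ) (hj : j < C.κ) : rho N j ≠ 1 := by
  have hN := C.hN
  intro h
  have e := congrArg (fun p : Equiv.Perm (Fin N) => ((p (C.ia j (le_of_lt hj)) : Fin N) : ℕ)) h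
  beta_reduce at e
  rw [rho_val_short (by omega), Equiv.Perm.one_apply, MC.ia_val] at e
  split_ifs at e <;> omega

theorem rhoT_ne_one : rhoT C ≠ 1 := by
  have hN := C.hN
  intro h
  have e := congrArg (fun p : Equiv.Perm (Fin N) => ((p (C.ia C.κ le_rfl) : Fin N) : ℕ)) h
  beta_reduce at e
  rw [rhoT_val, Equiv.Perm.one_apply, MC.ia_val] at e
  split_ifs at e <;> omega

theorem nC_not_mem_BM (j : ℕ) (hj : j < C.κ) : nC C j hj ∉ BM C := fun h =>
  rho_ne_one C j hj (perm_eq_one_of_upper (isMono_nC C j hj) h)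

theorem nTm_not_mem_BM : nTm C ∉ BM C := fun h =>
  rhoT_ne_one C (perm_eq_one_of_upper (isMono_nTm C) h)

theorem chain_nondeg {j : ℕ} (hj : j < C.κ) :
    ∃ x ∈ XC C j, nC C j hj * x * (nC C j hj)⁻¹ ∉ BM C :=
  ⟨sMm C j hj (upT 1), (mem_XC_iff C hj).2 ⟨1, rfl⟩,
    sl2_nondeg (sMm C j hj) (BM C) (fun t => UM_le_BM C (sMm_upT_mem_UM C j hj t))
      (fun a ha => TM_le_BM C (sMm_dgT_mem_TM C j hj a ha)) (nC_not_mem_BM C j hj)⟩

theorem twist_nondeg : ∃ x ∈ XT C, nTm C * x * (nTm C)⁻¹ ∉ BM C :=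
  ⟨tMm C (upT 1), ⟨1, rfl⟩,
    sl2_nondeg (tMm C) (BM C) (fun t => UM_le_BM C (tMm_upT_mem_UM C t))
      (fun a ha => TM_le_BM C (tMm_dgT_mem_TM C a ha)) (nTm_not_mem_BM C)⟩

end Cfsg.Agent.Lib.Helper5.AutDM
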