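import Cfsg.Agent.Lib.Helper5.AutDM.BN2
import Mathlib

/-!
# `Ω⁻_{2κ+4}(F)`: the splitting of `U` and the dichotomy at the nodes (helper5)

For every node `i` of the model: `U = X_i U_i` with `n_i U_i n_i⁻¹ ≤ U`; for a monomial element
`ν` of the model either `ν⁻¹ X_i ν ≤ U` or `(n_i ν)⁻¹ X_i (n_i ν) ≤ U`.
-/

set_option autoImplicit false

namespace Cfsg.Agent.Lib.Helper5.AutDM

open Matrix Cfsg Cfsg.Agent.Lib.Helper5.GLBN Cfsg.Agent.Lib.Helper8.SpBN
open Cfsg.Agent.Lib.Helper8.Tw Cfsg.Agent.PSUT Cfsg.Agent.Lib.Helper5.AutSU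
open Cfsg.Agent.Lib.Helper5.AutDO Cfsg.Agent.AutPM
open Cfsg.Agent.AutPSU (upT loT dgT moT Quad)
open Cfsg.Agent.AutPO (sO fO tO)
open DoubleCoset
open scoped MatrixGroups

variable {N : ℕ} {F K : Type*} [Field F] [Field K] [Fintype K]

/-- the splitting at a chain node, the parameter being the entry next to the diagonal -/
theorem chain_split_entry {j : ℕ} (hj : 2 * j + 4 ≤ N) {u : SUm N K (RingHom.id K)}
    (hu : u ∈ UU N K (RingHom.id K)) (t : K)
    (ht : ((gl u : GL (Fin N) K) : Matrix (Fin N) (Fin N) K) ⟨j, by omega⟩ ⟨j + 1, by omega⟩ = t) :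
    xpS idinv j hj (-t) * u ∈ UU N K (RingHom.id K) ∧
      nS j hj * (xpS idinv j hj (-t) * u) * (nS j hj)⁻¹ ∈ UU N K (RingHom.id K) := by
  have ha : j < N := by omega
  have hb : j + 1 < N := by omega
  have hxU : ∀ s : K, xpS idinv j hj s ∈ UU N K (RingHom.id K) := fun s =>
    Xp_le_UU j (xpS_mem_Xp idinv j hj s)
  have hvU : xpS idinv j hj (-t) * u ∈ UU N K (RingHom.id K) := mul_mem (hxU _) hu
  have hra : (((⟨j, ha⟩ : Fin N).rev : Fin N) : ℕ) = N - (j + 1) := by rw [Fin.val_rev]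
  have hrb : (((⟨j + 1, hb⟩ : Fin N).rev : Fin N) : ℕ) = N - (j + 1 + 1) := by rw [Fin.val_rev]
  have hz1 : ((gl (xpS idinv j hj (-t) * u) : GL (Fin N) K) : Matrix (Fin N) (Fin N) K)
      ⟨j, ha⟩ ⟨j + 1, hb⟩ = 0 := by
    rw [gl_mul, Units.val_mul, gl_xpS, xS_mul_apply_row _ _ _ _
      (fin_ne (by rw [hrb]; simp only; omega)) (fin_ne (by rw [hrb]; simp only; omega)), ht,
      (mem_UU.1 hu).2]
    ring
  have hz2 := adj_zero hvU hj hz1
  refine ⟨hvU, ?_⟩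
  have hn : IsMono ((gl ((nS j hj)⁻¹ : SUm N K (RingHom.id K)) : GL (Fin N) K) :
      Matrix (Fin N) (Fin N) K) (rho N j)⁻¹ := by
    rw [gl_inv]
    exact (isMono_nS j hj).inv
  have hρ : (rho N j)⁻¹ = rho N j := by
    rw [inv_eq_iff_mul_eq_one]
    exact rho_sq j (by omega)
  rw [hρ] at hn
  have key := conj_mem_UU hn hvU (by
    intro i k hki hlt
    rcases rho_short_inversion (by omega) i k hki hlt with ⟨e1, e2⟩ | ⟨e1, e2⟩
    · have hi : rho N j i = ⟨j, ha⟩ := rho_short_down (by omega) _ _ e1 rfl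
      have hk : rho N j k = ⟨j + 1, hb⟩ := rho_short_up (by omega) _ _ e2 rfl
      rw [hi, hk]
      exact hz1
    · have hi : rho N j i = (⟨j + 1, hb⟩ : Fin N).rev := by
        apply Fin.ext
        rw [rho_val_short (by omega), hrb]
        split_ifs <;> omega
      have hk : rho N j k = (⟨j, ha⟩ : Fin N).rev := by
        apply Fin.ext
        rw [rho_val_short (by omega), hra]
        split_ifs <;> omega
      rw [hi, hk]
      exact hz2)
  rw [inv_inv] at key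
  exact key

variable (C : MC N F K)

/-- an upper unitriangular element of the special orthogonal group of minus type whose entry at
`(κ, κ + 1)` vanishes has no entries in the middle block -/
theorem mid_zero {v : SUm N K (RingHom.id K)} (hv : v ∈ UU N K (RingHom.id K)) (hS : v ∈ C.SM)
    (h0 : ((gl v : GL (Fin N) K) : Matrix (Fin N) (Fin N) K) (C.ia C.κ le_rfl) C.D.p1 = 0)
    (a b : Fin N) (ha : C.κ ≤ (a : ℕ)) (hab : a < b) (hb : (b : ℕ) ≤ C.κ + 3) :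
    ((gl v : GL (Fin N) K) : Matrix (Fin N) (Fin N) K) a b = 0 := by
  have hN := C.hN
  have hκ : C.D.κ = C.κ := rfl
  obtain ⟨hlow, hdiag⟩ := mem_UU.1 hv
  have hNM := C.NM_ia C.κ le_rfl
  have hp1v := C.D.p1_val
  have hp1rv := C.D.p1_rev_val
  have ha0v : ((C.ia C.κ le_rfl : Fin N) : ℕ) = C.κ := rfl
  have ha0r : (((C.ia C.κ le_rfl).rev : Fin N) : ℕ) = C.κ + 3 := by
    rw [Fin.val_rev, ha0v]
    omega
  -- `(κ, p1.rev)`
  have e1 : ((gl v : GL (Fin N) K) : Matrix (Fin N) (Fin N) K) (C.ia C.κ le_rfl) C.D.p1.rev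
      = 0 := by
    have h := C.ThFix_apply hS.1 (C.ia C.κ le_rfl) C.D.p1
    rw [hNM, C.tau_p1, h0, map_zero] at h
    exact h.symm
  -- `(p1, p1.rev)`
  have e2 : ((gl v : GL (Fin N) K) : Matrix (Fin N) (Fin N) K) C.D.p1 C.D.p1.rev = 0 := by
    have h := (mem_OD.1 hS.2).upper_mid hlow C.D.p1 (by rw [hp1v, hp1rv])
    rw [hdiag, mul_one] at h
    exact h
  -- `(p1.rev, κ.rev)`
  have e3 : ((gl v : GL (Fin N) K) : Matrix (Fin N) (Fin N) K) C.D.p1.rev
      (C.ia C.κ le_rfl).rev = 0 := adj_zero hv C.hκN h0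
  -- `(p1, κ.rev)`
  have e4 : ((gl v : GL (Fin N) K) : Matrix (Fin N) (Fin N) K) C.D.p1
      (C.ia C.κ le_rfl).rev = 0 := by
    have h := C.ThFix_apply hS.1 C.D.p1.rev (C.ia C.κ le_rfl).rev
    rw [C.NM_rev hNM, C.tau_p1_rev, e3, map_zero] at h
    exact h.symm
  -- `(κ, κ.rev)`
  have e5 : ((gl v : GL (Fin N) K) : Matrix (Fin N) (Fin N) K) (C.ia C.κ le_rfl)
      (C.ia C.κ le_rfl).rev = 0 := by
    have h := (mem_OD.1 hS.2).col (C.ia C.κ le_rfl).rev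
    rw [Finset.sum_eq_single (C.ia C.κ le_rfl)] at h
    · rw [if_pos (by rw [Fin.lt_def, ha0r, ha0v]; omega), hdiag, mul_one] at h
      exact h
    · intro i _ hi
      by_cases hlt : i < i.rev
      · rw [if_pos hlt]
        have hir : ((i.rev : Fin N) : ℕ) = N - (i + 1) := Fin.val_rev i
        have hlt' : (i : ℕ) < (i.rev : Fin N) := hlt
        have hiv : (i : ℕ) ≠ C.κ := fun e => hi (Fin.ext e)
        rcases Nat.lt_or_ge (i : ℕ) C.κ with h1 | h1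
        · rw [hlow i.rev (C.ia C.κ le_rfl).rev (by rw [Fin.lt_def, ha0r, hir]; omega), mul_zero]
        · have ei : i = C.D.p1 := Fin.ext (by rw [hp1v]; omega)
          rw [ei, e4, zero_mul]
      · rw [if_neg hlt]
    · intro h'
      exact absurd (Finset.mem_univ _) h'
  have hab' : (a : ℕ) < b := hab
  have hcases : ((a : ℕ) = C.κ ∧ (b : ℕ) = C.κ + 1) ∨ ((a : ℕ) = C.κ ∧ (b : ℕ) = C.κ + 2) ∨
      ((a : ℕ) = C.κ ∧ (b : ℕ) = C.κ + 3) ∨ ((a : ℕ) = C.κ + 1 ∧ (b : ℕ) = C.κ + 2) ∨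
      ((a : ℕ) = C.κ + 1 ∧ (b : ℕ) = C.κ + 3) ∨ ((a : ℕ) = C.κ + 2 ∧ (b : ℕ) = C.κ + 3) := by
    omega
  rcases hcases with ⟨h1, h2⟩ | ⟨h1, h2⟩ | ⟨h1, h2⟩ | ⟨h1, h2⟩ | ⟨h1, h2⟩ | ⟨h1, h2⟩
  · have ea : a = C.ia C.κ le_rfl := Fin.ext h1
    have eb : b = C.D.p1 := Fin.ext (by omega)
    rw [ea, eb]
    exact h0
  · have ea : a = C.ia C.κ le_rfl := Fin.ext h1
    have eb : b = C.D.p1.rev := Fin.ext (by omega)
    rw [ea, eb]
    exact e1
  · have ea : a = C.ia C.κ le_rfl := Fin.ext h1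
    have eb : b = (C.ia C.κ le_rfl).rev := Fin.ext (by omega)
    rw [ea, eb]
    exact e5
  · have ea : a = C.D.p1 := Fin.ext (by omega)
    have eb : b = C.D.p1.rev := Fin.ext (by omega)
    rw [ea, eb]
    exact e2
  · have ea : a = C.D.p1 := Fin.ext (by omega)
    have eb : b = (C.ia C.κ le_rfl).rev := Fin.ext (by omega)
    rw [ea, eb]
    exact e4
  · have ea : a = C.D.p1.rev := Fin.ext (by omega)
    have eb : b = (C.ia C.κ le_rfl).rev := Fin.ext (by omega)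
    rw [ea, eb]
    exact e3

theorem rhoT_inv : (rhoT C)⁻¹ = rhoT C := by
  rw [inv_eq_iff_mul_eq_one]
  exact rhoT_mul_self C

/-- the splitting at the twisted node -/
theorem twist_split_entry {w : SUm N K (RingHom.id K)} (hw : w ∈ UU N K (RingHom.id K))
    (hS : w ∈ C.SM) (s : K)
    (hs : ((gl w : GL (Fin N) K) : Matrix (Fin N) (Fin N) K) (C.ia C.κ le_rfl) C.D.p1 = s) :
    w * C.tw (C.NM_ia C.κ le_rfl) (-s) ∈ UU N K (RingHom.id K) ∧
      nT C * (w * C.tw (C.NM_ia C.κ le_rfl) (-s)) * (nT C)⁻¹ ∈ UU N K (RingHom.id K) := by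
  have hN := C.hN
  have hκ : C.D.κ = C.κ := rfl
  have hNM := C.NM_ia C.κ le_rfl
  have hvU : w * C.tw hNM (-s) ∈ UU N K (RingHom.id K) :=
    mul_mem hw (tw_mem_UU C hNM (ia_lt_p1 C) _)
  have hvS : w * C.tw hNM (-s) ∈ C.SM := mul_mem hS (C.tw_mem_SM hNM _)
  have q1 := C.quad1 hNM
  have q2 := C.quad2 hNM
  have n4 : C.D.p1 ≠ (C.ia C.κ le_rfl).rev := fun h => q2.ne (by rw [h, Fin.rev_rev])
  have h0 : ((gl (w * C.tw hNM (-s)) : GL (Fin N) K) : Matrix (Fin N) (Fin N) K)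
      (C.ia C.κ le_rfl) C.D.p1 = 0 := by
    rw [gl_mul, Units.val_mul, C.mul_tw_apply, if_pos rfl, if_neg C.D.p1_ne, if_neg n4,
      (mem_UU.1 hw).2, hs]
    ring
  have hmid := mid_zero C hvU hvS h0
  refine ⟨hvU, ?_⟩
  have hn : IsMono ((gl ((nT C)⁻¹ : SUm N K (RingHom.id K)) : GL (Fin N) K) :
      Matrix (Fin N) (Fin N) K) (rhoT C) := by
    have h := (isMono_nT C).inv
    rw [rhoT_inv] at h
    rw [gl_inv]
    exact h
  have key := conj_mem_UU hn hvU (by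
    intro i k hki hlt
    have hi := i.2
    have hk := k.2
    have hki' : (k : ℕ) < i := hki
    have hlt' : ((rhoT C i : Fin N) : ℕ) < (rhoT C k : Fin N) := hlt
    apply hmid _ _ _ hlt
    · rw [rhoT_val] at hlt' ⊢
      rw [rhoT_val] at hlt'
      split_ifs at hlt' ⊢ <;> omega
    · rw [rhoT_val] at hlt' ⊢
      rw [rhoT_val] at hlt'
      split_ifs at hlt' ⊢ <;> omega)
  rw [inv_inv] at key
  exact key

/-- the coordinates which a permutation commuting with the swap of the two middle coordinates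
maps to the middle are the middle ones -/
theorem mid_of_perm {π : Equiv.Perm (Fin N)} (htau : ∀ x, π (C.D.tau x) = C.D.tau (π x))
    {k : Fin N} (h : π k = C.D.p1 ∨ π k = C.D.p1.rev) :
    (k : ℕ) = C.κ + 1 ∨ (k : ℕ) = C.κ + 2 := by
  by_contra hcon
  have hcon' := not_or.1 hcon
  have h1 : C.D.tau k = k := C.D.tau_fix k hcon'.1 hcon'.2
  have h2 : C.D.tau (π k) = π k := by rw [← htau, h1]
  rcases h with h | h
  · rw [h, C.tau_p1] at h2
    exact C.D.p1_ne h2.symm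
  · rw [h, C.tau_p1_rev] at h2
    exact C.D.p1_ne h2

/-- the conjugate of a short root element of the twisted group by a monomial element which maps a
coordinate of the first half to the coordinate of the root element is unitriangular -/
theorem conj_tw_mem_UU {ν : SUm N K (RingHom.id K)} {π : Equiv.Perm (Fin N)}
    (hν : IsMono ((gl ν : GL (Fin N) K) : Matrix (Fin N) (Fin N) K) π)
    (hrev : ∀ x, π x.rev = (π x).rev) (htau : ∀ x, π (C.D.tau x) = C.D.tau (π x))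
    {a : Fin N} (ha : C.NM a) {c : Fin N} (hc : π c = a) (hlt : c < c.rev) (s : K) :
    ν⁻¹ * C.tw ha s * ν ∈ UU N K (RingHom.id K) := by
  have hN := C.hN
  have hκ : C.D.κ = C.κ := rfl
  have hcNM : C.NM c := by
    apply π.injective
    rw [htau, hc]
    exact ha
  have hcr : ((c.rev : Fin N) : ℕ) = N - (c + 1) := Fin.val_rev c
  have hlt' : (c : ℕ) < (c.rev : Fin N) := hlt
  obtain ⟨hc1, hc2⟩ := C.NM_val hcNM
  have hcv : (c : ℕ) ≤ C.κ := by omega
  apply sh_le_UU _ (sh_conj hν (C.tw_mem_Sh ha s))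
  intro i k hP
  have hP' : C.PT a (π i) (π k) := hP
  unfold MC.PT at hP'
  rw [Fin.lt_def]
  rcases hP' with ⟨h1, h2 | h2 | h2⟩ | ⟨h1, h2 | h2⟩
  · have ei : i = c := π.injective (h1.trans hc.symm)
    have := mid_of_perm C htau (Or.inl h2)
    rw [ei]
    omega
  · have ei : i = c := π.injective (h1.trans hc.symm)
    have := mid_of_perm C htau (Or.inr h2)
    rw [ei]
    omega
  · have ei : i = c := π.injective (h1.trans hc.symm)
    have ek : k = c.rev := π.injective (by rw [h2, hrev, hc])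
    rw [ei, ek]
    exact hlt'
  · have ek : k = c.rev := π.injective (by rw [h1, hrev, hc])
    have := mid_of_perm C htau (Or.inl h2)
    rw [ek, hcr]
    omega
  · have ek : k = c.rev := π.injective (by rw [h1, hrev, hc])
    have := mid_of_perm C htau (Or.inr h2)
    rw [ek, hcr]
    omega

/-! ### in the model -/

theorem chain_U_eq {j : ℕ} (hj : j < C.κ) (u : Mm C) (hu : u ∈ UM C) :
    ∃ x ∈ XC C j, ∃ v ∈ UM C, nC C j hj * v * (nC C j hj)⁻¹ ∈ UM C ∧ u = x * v := by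
  have hN := C.hN
  obtain ⟨c, hc⟩ : ∃ c : K, ((gl (u : SUm N K (RingHom.id K)) : GL (Fin N) K) :
      Matrix (Fin N) (Fin N) K) (C.ia j (le_of_lt hj)) (C.ia (j + 1) hj) = c := ⟨_, rfl⟩
  have hfix : C.cj c = c := by
    have h3 := gm_cj C u (C.ia j (le_of_lt hj)) (C.ia (j + 1) hj)
    unfold gm at h3
    rw [C.NM_ia j (le_of_lt hj), C.NM_ia (j + 1) hj, hc] at h3
    exact h3
  obtain ⟨t, ht⟩ := C.hfix c hfix
  obtain ⟨h1, h2⟩ := chain_split_entry (C.hj_of_lt hj) ((mem_UM C).1 hu) c hc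
  have e : (((sMm C j hj (upT t))⁻¹ * u : Mm C) : SUm N K (RingHom.id K))
      = xpS idinv j (C.hj_of_lt hj) (-c) * (u : SUm N K (RingHom.id K)) := by
    rw [← map_inv, Cfsg.Agent.AutPSU.upT_inv]
    show ((sMm C j hj (upT (-t)) : Mm C) : SUm N K (RingHom.id K)) * _ = _
    rw [sMm_upT_coe, map_neg, ht]
  refine ⟨sMm C j hj (upT t), (mem_XC_iff C hj).2 ⟨t, rfl⟩, (sMm C j hj (upT t))⁻¹ * u, ?_, ?_,
    by group⟩
  · rw [mem_UM, e]
    exact h1
  · rw [mem_UM]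
    show ((nC C j hj : Mm C) : SUm N K (RingHom.id K))
      * (((sMm C j hj (upT t))⁻¹ * u : Mm C) : SUm N K (RingHom.id K))
      * ((nC C j hj : Mm C) : SUm N K (RingHom.id K))⁻¹ ∈ _
    rw [e, nC_coe]
    exact h2

theorem twist_U_eq (u : Mm C) (hu : u ∈ UM C) :
    ∃ x ∈ XT C, ∃ v ∈ UM C, nTm C * v * (nTm C)⁻¹ ∈ UM C ∧ u = x * v := by
  obtain ⟨s, hs⟩ : ∃ s : K, ((gl ((u⁻¹ : Mm C) : SUm N K (RingHom.id K)) : GL (Fin N) K) :
      Matrix (Fin N) (Fin N) K) (C.ia C.κ le_rfl) C.D.p1 = s := ⟨_, rfl⟩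
  have huU : ((u⁻¹ : Mm C) : SUm N K (RingHom.id K)) ∈ UU N K (RingHom.id K) :=
    (mem_UM C).1 (inv_mem hu)
  obtain ⟨h1, h2⟩ := twist_split_entry C huU (C.G0_le_SM (u⁻¹).2) s hs
  have e : ((u⁻¹ * tMm C (upT (-s)) : Mm C) : SUm N K (RingHom.id K))
      = ((u⁻¹ : Mm C) : SUm N K (RingHom.id K)) * C.tw (C.NM_ia C.κ le_rfl) (-s) := by
    show _ * ((tMm C (upT (-s)) : Mm C) : SUm N K (RingHom.id K)) = _
    rw [tMm_upT_coe]
  have hvU : u⁻¹ * tMm C (upT (-s)) ∈ UM C := by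
    rw [mem_UM, e]
    exact h1
  have hvn : nTm C * (u⁻¹ * tMm C (upT (-s))) * (nTm C)⁻¹ ∈ UM C := by
    rw [mem_UM]
    show ((nTm C : Mm C) : SUm N K (RingHom.id K))
      * ((u⁻¹ * tMm C (upT (-s)) : Mm C) : SUm N K (RingHom.id K))
      * ((nTm C : Mm C) : SUm N K (RingHom.id K))⁻¹ ∈ _
    rw [e, nTm_coe]
    exact h2
  refine ⟨tMm C (upT (-s)), ⟨-s, rfl⟩, (u⁻¹ * tMm C (upT (-s)))⁻¹, inv_mem hvU, ?_, by group⟩
  have e2 : nTm C * (u⁻¹ * tMm C (upT (-s)))⁻¹ * (nTm C)⁻¹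
      = (nTm C * (u⁻¹ * tMm C (upT (-s))) * (nTm C)⁻¹)⁻¹ := by group
  rw [e2]
  exact inv_mem hvn

theorem chain_dichM {j : ℕ} (hj : j < C.κ) {ν : Mm C} {π : Equiv.Perm (Fin N)}
    (hν : IsMono ((gm C ν : GL (Fin N) K) : Matrix (Fin N) (Fin N) K) π) :
    (∀ x ∈ XC C j, ν⁻¹ * x * ν ∈ UM C) ∨
      (∀ x ∈ XC C j, (nC C j hj * ν)⁻¹ * x * (nC C j hj * ν) ∈ UM C) := by
  rcases chain_dich (C.hj_of_lt hj) hν (perm_rev C hν) with h | h
  · left
    intro x hx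
    obtain ⟨t, rfl⟩ := (mem_XC_iff C hj).1 hx
    rw [mem_UM]
    show ((ν : Mm C) : SUm N K (RingHom.id K))⁻¹
      * ((sMm C j hj (upT t) : Mm C) : SUm N K (RingHom.id K))
      * ((ν : Mm C) : SUm N K (RingHom.id K)) ∈ _
    rw [sMm_upT_coe]
    exact h _
  · right
    intro x hx
    obtain ⟨t, rfl⟩ := (mem_XC_iff C hj).1 hx
    rw [mem_UM]
    show (((nC C j hj : Mm C) : SUm N K (RingHom.id K)) * ((ν : Mm C) : SUm N K (RingHom.id K)))⁻¹
      * ((sMm C j hj (upT t) : Mm C) : SUm N K (RingHom.id K))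
      * (((nC C j hj : Mm C) : SUm N K (RingHom.id K)) * ((ν : Mm C) : SUm N K (RingHom.id K))) ∈ _
    rw [sMm_upT_coe, nC_coe]
    exact h _

theorem twist_dichM {ν : Mm C} {π : Equiv.Perm (Fin N)}
    (hν : IsMono ((gm C ν : GL (Fin N) K) : Matrix (Fin N) (Fin N) K) π) :
    (∀ x ∈ XT C, ν⁻¹ * x * ν ∈ UM C) ∨
      (∀ x ∈ XT C, (nTm C * ν)⁻¹ * x * (nTm C * ν) ∈ UM C) := by
  have hc : π (π⁻¹ (C.ia C.κ le_rfl)) = C.ia C.κ le_rfl := by simp
  rcases lt_or_gt_of_ne (ne_rev C.even (π⁻¹ (C.ia C.κ le_rfl))) with h | h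
  · left
    rintro x ⟨s, rfl⟩
    rw [mem_UM]
    show ((ν : Mm C) : SUm N K (RingHom.id K))⁻¹
      * ((tMm C (upT s) : Mm C) : SUm N K (RingHom.id K))
      * ((ν : Mm C) : SUm N K (RingHom.id K)) ∈ _
    rw [tMm_upT_coe]
    exact conj_tw_mem_UU C hν (perm_rev C hν) (perm_tau C hν) _ hc h s
  · right
    have hν' : IsMono ((gm C (nTm C * ν) : GL (Fin N) K) : Matrix (Fin N) (Fin N) K)
        (rhoT C * π) := by
      rw [gm_mul, Units.val_mul]
      exact (isMono_nTm C).mul hν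
    rintro x ⟨s, rfl⟩
    rw [mem_UM]
    show ((nTm C * ν : Mm C) : SUm N K (RingHom.id K))⁻¹
      * ((tMm C (upT s) : Mm C) : SUm N K (RingHom.id K))
      * ((nTm C * ν : Mm C) : SUm N K (RingHom.id K)) ∈ _
    rw [tMm_upT_coe]
    refine conj_tw_mem_UU C hν' (perm_rev C hν') (perm_tau C hν') _
      (c := (π⁻¹ (C.ia C.κ le_rfl)).rev) ?_ ?_ s
    · rw [Equiv.Perm.mul_apply, perm_rev C hν, hc, rhoT_rev, rhoT_ia, Fin.rev_rev]
    · rw [Fin.rev_rev]
      exact h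

end Cfsg.Agent.Lib.Helper5.AutDM
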