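import Cfsg.Agent.Lib.Helper5.AutDM.BN3
import Mathlib

/-!
# `Ω⁻_{2κ+4}(F)`: the `(B, N)`-pair of the model (helper5)

The root subgroup data `rdataM` (lead's `RData`) of the model `Mm C` of `Ω⁻_{2κ+4}(F)`, indexed by
`Fin (κ + 1)` (the chain nodes `0, …, κ - 1`, then the twisted node), and the `(B, N)`-pair `bnM`.
-/

set_option autoImplicit false

namespace Cfsg.Agent.Lib.Helper5.AutDM

open Matrix Cfsg Cfsg.Agent.Lib.Helper5.GLBN Cfsg.Agent.Lib.Helper8.SpBN
open Cfsg.Agent.Lib.Helper8.Tw Cfsg.Agent.PSUT Cfsg.Agent.Lib.Helper5.AutSU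
open Cfsg.Agent.Lib.Helper5.AutDO Cfsg.Agent.AutPM
open Cfsg.Agent.AutPSU (upT loT dgT moT Quad)
open Cfsg.Agent.AutPO (sO fO tO)
open DoubleCoset
open scoped MatrixGroups

variable {N : ℕ} {F K : Type*} [Field F] [Field K] [Fintype K] (C : MC N F K)

/-- the representatives of the reflections: the chain nodes `0, …, κ - 1`, then the twisted
node -/
noncomputable def nM (i : Fin (C.κ + 1)) : Mm C :=
  if h : (i : ℕ) < C.κ then nC C i h else nTm C

theorem nM_lt (i : Fin (C.κ + 1)) (h : (i : ℕ) < C.κ) : nM C i = nC C i h := dif_pos h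

theorem nM_tw (i : Fin (C.κ + 1)) (h : ¬ (i : ℕ) < C.κ) : nM C i = nTm C := dif_neg h

/-- the positive fundamental root subgroups -/
noncomputable def XM (i : Fin (C.κ + 1)) : Subgroup (Mm C) :=
  if (i : ℕ) < C.κ then XC C i else XT C

theorem XM_lt (i : Fin (C.κ + 1)) (h : (i : ℕ) < C.κ) : XM C i = XC C i := if_pos h

theorem XM_tw (i : Fin (C.κ + 1)) (h : ¬ (i : ℕ) < C.κ) : XM C i = XT C := if_neg h

/-- the permutations of the reflections -/
def rhoM (i : Fin (C.κ + 1)) : Equiv.Perm (Fin N) :=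
  if (i : ℕ) < C.κ then rho N i else rhoT C

theorem rhoM_lt (i : Fin (C.κ + 1)) (h : (i : ℕ) < C.κ) : rhoM C i = rho N i := if_pos h

theorem rhoM_tw (i : Fin (C.κ + 1)) (h : ¬ (i : ℕ) < C.κ) : rhoM C i = rhoT C := if_neg h

theorem isMono_nM (i : Fin (C.κ + 1)) :
    IsMono ((gm C (nM C i) : GL (Fin N) K) : Matrix (Fin N) (Fin N) K) (rhoM C i) := by
  by_cases h : (i : ℕ) < C.κ
  · rw [nM_lt _ _ h, rhoM_lt _ _ h]
    exact isMono_nC C i h
  · rw [nM_tw _ _ h, rhoM_tw _ _ h]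
    exact isMono_nTm C

theorem rhoM_mul_self (i : Fin (C.κ + 1)) : rhoM C i * rhoM C i = 1 := by
  by_cases h : (i : ℕ) < C.κ
  · rw [rhoM_lt _ _ h]
    exact rho_sq _ (by have := C.hN; omega)
  · rw [rhoM_tw _ _ h]
    exact rhoT_mul_self C

theorem rhoM_injective : Function.Injective (rhoM C) := by
  have hN := C.hN
  intro i j hij
  have hi := i.2
  have hj := j.2
  by_cases h1 : (i : ℕ) < C.κ
  · by_cases h2 : (j : ℕ) < C.κ
    · rw [rhoM_lt _ _ h1, rhoM_lt _ _ h2] at hij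
      obtain ⟨x, hx⟩ : ∃ x : Fin N, (x : ℕ) = (i : ℕ) := ⟨⟨i, by omega⟩, rfl⟩
      have e := congrArg (fun p : Equiv.Perm (Fin N) => ((p x : Fin N) : ℕ)) hij
      beta_reduce at e
      rw [rho_val_short (by omega), rho_val_short (by omega)] at e
      apply Fin.ext
      split_ifs at e <;> omega
    · exfalso
      rw [rhoM_lt _ _ h1, rhoM_tw _ _ h2] at hij
      obtain ⟨x, hx⟩ : ∃ x : Fin N, (x : ℕ) = C.κ := ⟨⟨C.κ, by omega⟩, rfl⟩
      have e := congrArg (fun p : Equiv.Perm (Fin N) => ((p x : Fin N) : ℕ)) hij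
      beta_reduce at e
      rw [rho_val_short (by omega), rhoT_val] at e
      split_ifs at e <;> omega
  · by_cases h2 : (j : ℕ) < C.κ
    · exfalso
      rw [rhoM_tw _ _ h1, rhoM_lt _ _ h2] at hij
      obtain ⟨x, hx⟩ : ∃ x : Fin N, (x : ℕ) = C.κ := ⟨⟨C.κ, by omega⟩, rfl⟩
      have e := congrArg (fun p : Equiv.Perm (Fin N) => ((p x : Fin N) : ℕ)) hij
      beta_reduce at e
      rw [rho_val_short (by omega), rhoT_val] at e
      split_ifs at e <;> omega
    · apply Fin.ext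
      omega

/-- the monomial subgroup of the model -/
noncomputable def NMm : Subgroup (Mm C) := Subgroup.closure (Set.range (nM C)) ⊔ TM C

/-- the underlying matrix, as a homomorphism -/
noncomputable def gmHom : Mm C →* GL (Fin N) K :=
  (glHom N K (RingHom.id K)).comp C.G0.subtype

theorem gmHom_apply (g : Mm C) : gmHom C g = gm C g := rfl

theorem nM_mem_NMm (i : Fin (C.κ + 1)) : nM C i ∈ NMm C :=
  Subgroup.mem_sup_left (Subgroup.subset_closure ⟨i, rfl⟩)

theorem TM_le_NMm : TM C ≤ NMm C := le_sup_right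

/-- the elements of the monomial subgroup are monomial -/
theorem exists_mono_of_mem_NMm {ν : Mm C} (hν : ν ∈ NMm C) :
    ∃ π : Equiv.Perm (Fin N),
      IsMono ((gm C ν : GL (Fin N) K) : Matrix (Fin N) (Fin N) K) π := by
  have h : NMm C ≤ (monoN N K).comap (gmHom C) := by
    unfold NMm
    rw [sup_le_iff, Subgroup.closure_le]
    constructor
    · rintro _ ⟨i, rfl⟩
      exact ⟨rhoM C i, isMono_nM C i⟩
    · intro t ht
      exact ⟨1, isMono_of_mem_TT ((mem_TM C).1 ht)⟩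
  exact h hν

theorem mem_TM_of_isMono {t : Mm C}
    (ht : IsMono ((gm C t : GL (Fin N) K) : Matrix (Fin N) (Fin N) K) 1) : t ∈ TM C :=
  mem_TT_of_isMono ht

theorem sMm_loT (j : ℕ) (hj : j < C.κ) (t : F) :
    sMm C j hj (loT t) = nC C j hj * sMm C j hj (upT (-t)) * (nC C j hj)⁻¹ := by
  unfold nC
  rw [← map_inv, ← map_mul, ← map_mul, moT_one_conj_upT, neg_neg]

theorem tMm_loT (t : K) : tMm C (loT t) = nTm C * tMm C (upT (-t)) * (nTm C)⁻¹ := by
  unfold nTm
  rw [← map_inv, ← map_mul, ← map_mul, moT_one_conj_upT, neg_neg]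

/-- `B ⊔ N = ⊤` -/
theorem BM_sup_NMm : BM C ⊔ NMm C = (⊤ : Subgroup (Mm C)) := by
  rw [eq_top_iff]
  have hnC : ∀ (j : ℕ) (hj : j < C.κ), nC C j hj ∈ BM C ⊔ NMm C := by
    intro j hj
    have := nM_mem_NMm C ⟨j, by omega⟩
    rw [nM_lt _ _ hj] at this
    exact Subgroup.mem_sup_right this
  have hnT : nTm C ∈ BM C ⊔ NMm C := by
    have := nM_mem_NMm C ⟨C.κ, by omega⟩
    rw [nM_tw _ _ (by simp)] at this
    exact Subgroup.mem_sup_right this
  have key : C.G0 ≤ (BM C ⊔ NMm C).map C.G0.subtype := by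
    apply C.G0_le
    · intro j hj x
      refine ⟨sMm C j hj x, ?_, rfl⟩
      apply Cfsg.Agent.AutPSU.sl2_map_mem (sMm C j hj) (BM C ⊔ NMm C)
      · intro t
        exact Subgroup.mem_sup_left (UM_le_BM C (sMm_upT_mem_UM C j hj t))
      · intro t
        rw [sMm_loT]
        exact mul_mem (mul_mem (hnC j hj)
          (Subgroup.mem_sup_left (UM_le_BM C (sMm_upT_mem_UM C j hj _)))) (inv_mem (hnC j hj))
    · intro x
      refine ⟨tMm C x, ?_, rfl⟩
      apply Cfsg.Agent.AutPSU.sl2_map_mem (tMm C) (BM C ⊔ NMm C)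
      · intro t
        exact Subgroup.mem_sup_left (UM_le_BM C (tMm_upT_mem_UM C t))
      · intro t
        rw [tMm_loT]
        exact mul_mem (mul_mem hnT
          (Subgroup.mem_sup_left (UM_le_BM C (tMm_upT_mem_UM C _)))) (inv_mem hnT)
  intro g _
  obtain ⟨g', hg', e⟩ := key g.2
  have : g' = g := Subtype.ext e
  rw [← this]
  exact hg'

/-- the root subgroup data of the model -/
noncomputable def rdataM : Cfsg.Agent.RootBN.RData (Mm C) (Fin (C.κ + 1)) where
  T := TM C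
  U := UM C
  B := BM C
  N := NMm C
  n := nM C
  X := XM C
  Uc i := UM C ⊓ (UM C).comap (MulAut.conj (nM C i)).toMonoidHom
  mem_B b := by
    constructor
    · intro hb
      exact exists_UT C hb
    · rintro ⟨u, hu, t, ht, rfl⟩
      exact mul_mem (UM_le_BM C hu) (TM_le_BM C ht)
  T_norm t ht u hu := UU_normal _ (TM_le_BM C ht) _ hu
  T_le_N := TM_le_NMm C
  n_mem := nM_mem_NMm C
  B_inf_N := by
    rintro g ⟨hB, hN⟩
    obtain ⟨π, hπ⟩ := exists_mono_of_mem_NMm C hN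
    have h1 : π = 1 := perm_eq_one_of_upper hπ hB
    rw [h1] at hπ
    exact mem_TM_of_isMono C hπ
  N_le := le_rfl
  N_norm := by
    intro ν hν t ht
    obtain ⟨π, hπ⟩ := exists_mono_of_mem_NMm C hν
    apply mem_TM_of_isMono C
    have h1 := (hπ.mul (isMono_of_mem_TT ((mem_TM C).1 ht))).mul hπ.inv
    rw [mul_one, mul_inv_cancel] at h1
    rw [gm_mul, gm_mul, gm_inv, Units.val_mul, Units.val_mul]
    exact h1
  n_sq := by
    intro i
    apply mem_TM_of_isMono C
    have h1 := (isMono_nM C i).mul (isMono_nM C i)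
    rw [rhoM_mul_self] at h1
    rw [gm_mul, Units.val_mul]
    exact h1
  X_le := by
    intro i
    by_cases h : (i : ℕ) < C.κ
    · rw [XM_lt _ _ h]
      exact XC_le_UM C i
    · rw [XM_tw _ _ h]
      exact XT_le_UM C
  Uc_le i := inf_le_left
  U_eq := by
    intro i u hu
    by_cases h : (i : ℕ) < C.κ
    · rw [XM_lt _ _ h, nM_lt _ _ h]
      obtain ⟨x, hx, v, hv, hn, e⟩ := chain_U_eq C h u hu
      exact ⟨x, hx, v, ⟨hv, hn⟩, e⟩
    · rw [XM_tw _ _ h, nM_tw _ _ h]
      obtain ⟨x, hx, v, hv, hn, e⟩ := twist_U_eq C u hu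
      exact ⟨x, hx, v, ⟨hv, hn⟩, e⟩
  n_Uc i v hv := hv.2
  rank_one := by
    intro i x hx
    by_cases h : (i : ℕ) < C.κ
    · rw [XM_lt _ _ h] at hx
      rw [nM_lt _ _ h]
      exact chain_rank_one C h x hx
    · rw [XM_tw _ _ h] at hx
      rw [nM_tw _ _ h]
      exact twist_rank_one C x hx
  dich := by
    intro ν hν i
    obtain ⟨π, hπ⟩ := exists_mono_of_mem_NMm C hν
    by_cases h : (i : ℕ) < C.κ
    · rw [XM_lt _ _ h, nM_lt _ _ h]
      exact chain_dichM C h hπ
    · rw [XM_tw _ _ h, nM_tw _ _ h]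
      exact twist_dichM C hπ
  gen := BM_sup_NMm C
  n_inj := by
    intro i j hij
    have h1 : IsMono ((gm C ((nM C i)⁻¹ * nM C j) : GL (Fin N) K) :
        Matrix (Fin N) (Fin N) K) ((rhoM C i)⁻¹ * rhoM C j) := by
      rw [gm_mul, gm_inv, Units.val_mul]
      exact (isMono_nM C i).inv.mul (isMono_nM C j)
    have h2 := perm_eq_one_of_upper h1 hij
    rw [inv_mul_eq_one] at h2
    rw [rhoM_injective C h2]
  nondeg := by
    intro i
    by_cases h : (i : ℕ) < C.κ
    · rw [XM_lt _ _ h, nM_lt _ _ h]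
      exact chain_nondeg C h
    · rw [XM_tw _ _ h, nM_tw _ _ h]
      exact twist_nondeg C

/-- **the `(B, N)`-pair of the model of `Ω⁻_{2κ+4}(F)`** -/
noncomputable def bnM : BNPair (Mm C) := (rdataM C).bnPair

theorem bnM_B : (bnM C).B = BM C := rfl

theorem bnM_N : (bnM C).N = NMm C := rfl

theorem bnM_S : (bnM C).S = Set.range (nM C) := rfl

end Cfsg.Agent.Lib.Helper5.AutDM
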