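import Cfsg.Agent.Lib.Helper5.AutDM.BN4
import Cfsg.Agent.Lib.Helper5.AutDO.Perfect
import Mathlib

/-!
# `Ω⁻_{2κ+4}(F)`: the model is perfect (helper5)

For `2 ≤ κ` the model `Mm C` is perfect: the root elements of the chain nodes are commutators of
long root elements (three coordinates of the first half), those of the twisted node are
commutators inside the image of `SL₂(K)` (`K` has at least four elements).
-/

set_option autoImplicit false

namespace Cfsg.Agent.Lib.Helper5.AutDM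

open Matrix Cfsg Cfsg.Agent.Lib.Helper5.GLBN Cfsg.Agent.Lib.Helper8.SpBN
open Cfsg.Agent.Lib.Helper8.Tw Cfsg.Agent.PSUT Cfsg.Agent.Lib.Helper5.AutSU
open Cfsg.Agent.Lib.Helper5.AutDO Cfsg.Agent.AutPM
open Cfsg.Agent.AutPSU (upT loT dgT moT Quad)
open scoped MatrixGroups

variable {N : ℕ} {F K : Type*} [Field F] [Field K] [Fintype K] (C : MC N F K)

theorem mem_commutator_of_eqM {g : Mm C} (h : ∃ X Y : Mm C, g = X * Y * X⁻¹ * Y⁻¹) :
    g ∈ commutator (Mm C) := by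
  obtain ⟨X, Y, rfl⟩ := h
  rw [commutator_def, ← commutatorElement_def]
  exact Subgroup.commutator_mem_commutator (Subgroup.mem_top X) (Subgroup.mem_top Y)

/-- the negative root elements of a chain node -/
theorem sMm_loT_coe (j : ℕ) (hj : j < C.κ) (t : F) :
    ((sMm C j hj (loT t) : Mm C) : SUm N K (RingHom.id K))
      = xmS idinv j (C.hj_of_lt hj) (C.ι t) := by
  rw [sMm_coe, MC.sM_apply, Cfsg.Agent.AutPO.map_loT, xmS_eq_sO]

/-- the positive long root elements of the model -/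
noncomputable def xL {a b : Fin N} (q : Quad a b) (hab : a < b)
    (ha : C.NM a) (hb : C.NM b) (t : F) : Mm C :=
  ⟨xQ q (C.ι t), UM_le_G0 C ⟨mem_UU.2 (by rw [gl_xQ]; exact xS_isUpU hab _),
    C.xQ_long_mem_SM q ha hb t⟩⟩

theorem gm_xL {a b : Fin N} (q : Quad a b) (hab : a < b)
    (ha : C.NM a) (hb : C.NM b) (t : F) :
    gm C (xL C q hab ha hb t) = xS (RingHom.id K) a b q.ne (C.ι t) := rfl

theorem gm_sMm_upT (j : ℕ) (hj : j < C.κ) (t : F) :
    gm C (sMm C j hj (upT t)) = xS (RingHom.id K) (C.ia j (le_of_lt hj)) (C.ia (j + 1) hj)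
      (C.quadC j hj).ne (C.ι t) := by
  unfold gm
  rw [sMm_upT_coe]
  rfl

theorem gm_sMm_loT (j : ℕ) (hj : j < C.κ) (t : F) :
    gm C (sMm C j hj (loT t)) = xS (RingHom.id K) (C.ia (j + 1) hj) (C.ia j (le_of_lt hj))
      (C.quadC j hj).ne.symm (C.ι t) := by
  unfold gm
  rw [sMm_loT_coe]
  rfl

/-- a positive root element of a chain node is a commutator, first case -/
theorem sMm_upT_eq_comm_lt {j : ℕ} (hj : j + 2 ≤ C.κ) (t : F) :
    ∃ X Y : Mm C, sMm C j (by omega) (upT t) = X * Y * X⁻¹ * Y⁻¹ := by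
  have hN := C.hN
  have hT : Tri (C.ia j (by omega)) (C.ia (j + 2) hj) (C.ia (j + 1) (by omega)) :=
    tri_of_lt (by rw [MC.ia_val]; omega) (by rw [MC.ia_val]; omega) (by rw [MC.ia_val]; omega)
      (by rw [MC.ia_val, MC.ia_val]; omega) (by rw [MC.ia_val, MC.ia_val]; omega)
      (by rw [MC.ia_val, MC.ia_val]; omega)
  have q : Quad (C.ia j (by omega)) (C.ia (j + 2) hj) := ⟨hT.ab, hT.ab', hT.aa, hT.bb⟩
  obtain ⟨X, hX⟩ : ∃ X : Mm C, gm C X = xS (RingHom.id K) (C.ia j (by omega)) (C.ia (j + 2) hj)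
      hT.ab (C.ι 1) :=
    ⟨xL C q (by rw [Fin.lt_def, MC.ia_val, MC.ia_val]; omega) (C.NM_ia _ _) (C.NM_ia _ _) 1, rfl⟩
  obtain ⟨Y, hY⟩ : ∃ Y : Mm C, gm C Y = xS (RingHom.id K) (C.ia (j + 2) hj)
      (C.ia (j + 1) (by omega)) hT.bc (C.ι t) :=
    ⟨sMm C (j + 1) (by omega) (loT t), gm_sMm_loT C (j + 1) (by omega) t⟩
  refine ⟨X, Y, ?_⟩
  apply Subtype.ext
  apply gl_injective
  have h := xS_comm hT (C.ι 1) (C.ι t)
  rw [map_one, one_mul] at h
  show gm C (sMm C j (by omega) (upT t)) = gm C (X * Y * X⁻¹ * Y⁻¹)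
  rw [gm_mul, gm_mul, gm_mul, gm_inv, gm_inv, hX, hY, gm_sMm_upT, map_one]
  exact h.symm

/-- a positive root element of a chain node is a commutator, second case -/
theorem sMm_upT_eq_comm_succ {j : ℕ} (hj : j + 2 ≤ C.κ) (t : F) :
    ∃ X Y : Mm C, sMm C (j + 1) (by omega) (upT t) = X * Y * X⁻¹ * Y⁻¹ := by
  have hN := C.hN
  have hT : Tri (C.ia (j + 1) (by omega)) (C.ia j (by omega)) (C.ia (j + 2) hj) :=
    tri_of_lt (by rw [MC.ia_val]; omega) (by rw [MC.ia_val]; omega) (by rw [MC.ia_val]; omega)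
      (by rw [MC.ia_val, MC.ia_val]; omega) (by rw [MC.ia_val, MC.ia_val]; omega)
      (by rw [MC.ia_val, MC.ia_val]; omega)
  have q : Quad (C.ia j (by omega)) (C.ia (j + 2) hj) := ⟨hT.bc, hT.bc', hT.bb, hT.cc⟩
  obtain ⟨X, hX⟩ : ∃ X : Mm C, gm C X = xS (RingHom.id K) (C.ia (j + 1) (by omega))
      (C.ia j (by omega)) hT.ab (C.ι 1) :=
    ⟨sMm C j (by omega) (loT 1), gm_sMm_loT C j (by omega) 1⟩
  obtain ⟨Y, hY⟩ : ∃ Y : Mm C, gm C Y = xS (RingHom.id K) (C.ia j (by omega)) (C.ia (j + 2) hj)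
      hT.bc (C.ι t) :=
    ⟨xL C q (by rw [Fin.lt_def, MC.ia_val, MC.ia_val]; omega) (C.NM_ia _ _) (C.NM_ia _ _) t, rfl⟩
  refine ⟨X, Y, ?_⟩
  apply Subtype.ext
  apply gl_injective
  have h := xS_comm hT (C.ι 1) (C.ι t)
  rw [map_one, one_mul] at h
  show gm C (sMm C (j + 1) (by omega) (upT t)) = gm C (X * Y * X⁻¹ * Y⁻¹)
  rw [gm_mul, gm_mul, gm_mul, gm_inv, gm_inv, hX, hY, gm_sMm_upT, map_one]
  exact h.symm

theorem sMm_upT_mem_commutator (hκ : 2 ≤ C.κ) (j : ℕ) (hj : j < C.κ) (t : F) :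
    sMm C j hj (upT t) ∈ commutator (Mm C) := by
  apply mem_commutator_of_eqM
  rcases Nat.eq_zero_or_pos j with h0 | h0
  · subst h0
    exact sMm_upT_eq_comm_lt C (by omega) t
  · obtain ⟨j', rfl⟩ : ∃ j', j = j' + 1 := ⟨j - 1, by omega⟩
    exact sMm_upT_eq_comm_succ C (by omega) t

theorem sMm_loT_mem_commutator (hκ : 2 ≤ C.κ) (j : ℕ) (hj : j < C.κ) (t : F) :
    sMm C j hj (loT t) ∈ commutator (Mm C) := by
  rw [sMm_loT]
  exact (inferInstance : (commutator (Mm C)).Normal).conj_mem _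
    (sMm_upT_mem_commutator C hκ j hj (-t)) _

/-- the big field has an element which is neither zero nor a square root of one -/
theorem exists_sq_ne_one (C : MC N F K) : ∃ a : K, a ≠ 0 ∧ a ^ 2 - 1 ≠ 0 := by
  obtain ⟨x, hx⟩ := C.hne
  refine ⟨x, ?_, ?_⟩
  · rintro rfl
    exact hx (map_zero _)
  · intro h
    have h1 : (x - 1) * (x + 1) = 0 := by
      rw [← h]
      ring
    rcases mul_eq_zero.1 h1 with h2 | h2
    · have e : x = 1 := sub_eq_zero.1 h2
      rw [e] at hx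
      exact hx (map_one _)
    · have e : x = -1 := eq_neg_of_add_eq_zero_left h2
      rw [e] at hx
      exact hx (by rw [map_neg, map_one])

theorem tMm_upT_mem_commutator (s : K) : tMm C (upT s) ∈ commutator (Mm C) := by
  obtain ⟨a, ha, ha2⟩ := exists_sq_ne_one C
  apply mem_commutator_of_eqM
  refine ⟨tMm C (dgT a ha), tMm C (upT ((a ^ 2 - 1)⁻¹ * s)), ?_⟩
  rw [← map_inv, ← map_inv, ← map_mul, ← map_mul, ← map_mul, Cfsg.Agent.AutPSU.dgT_upT,
    mul_inv_cancel_right, Cfsg.Agent.AutPSU.upT_inv, ← Cfsg.Agent.AutPSU.upT_add]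
  congr 2
  field_simp
  ring

theorem tMm_loT_mem_commutator (s : K) : tMm C (loT s) ∈ commutator (Mm C) := by
  rw [tMm_loT]
  exact (inferInstance : (commutator (Mm C)).Normal).conj_mem _
    (tMm_upT_mem_commutator C (-s)) _

/-- **the model is perfect** (`2 ≤ κ`) -/
theorem perfectM (hκ : 2 ≤ C.κ) : commutator (Mm C) = ⊤ := by
  have key : C.G0 ≤ (commutator (Mm C)).map C.G0.subtype := by
    apply C.G0_le
    · intro j hj x
      refine ⟨sMm C j hj x, ?_, rfl⟩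
      apply Cfsg.Agent.AutPSU.sl2_map_mem (sMm C j hj) (commutator (Mm C))
      · exact sMm_upT_mem_commutator C hκ j hj
      · exact sMm_loT_mem_commutator C hκ j hj
    · intro x
      refine ⟨tMm C x, ?_, rfl⟩
      apply Cfsg.Agent.AutPSU.sl2_map_mem (tMm C) (commutator (Mm C))
      · exact tMm_upT_mem_commutator C
      · exact tMm_loT_mem_commutator C
  rw [eq_top_iff]
  intro g _
  obtain ⟨k, hk, e⟩ := key g.2
  have : k = g := Subtype.ext e
  rw [← this]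
  exact hk

end Cfsg.Agent.Lib.Helper5.AutDM
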