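import Cfsg.Agent.Lib.Helper5.AutDM.Weyl
import Cfsg.Agent.Lib.Helper5.AutDM.Perfect
import Mathlib

/-!
# `Ω⁻_{2κ+4}(F)`: the centre of the model (helper5)

For `1 ≤ κ` the centre of the model `Mm C` consists of scalar matrices (`center_scalarM`): a central
element commutes with two long root elements at the first coordinate, so its first column is
supported on the diagonal; the Weyl group is transitive on the coordinates outside the middle;
the middle block is handled by the short root elements.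
-/

set_option autoImplicit false

namespace Cfsg.Agent.Lib.Helper5.AutDM

open Matrix Cfsg Cfsg.Agent.Lib.Helper5.GLBN Cfsg.Agent.Lib.Helper8.SpBN
open Cfsg.Agent.Lib.Helper8.Tw Cfsg.Agent.PSUT Cfsg.Agent.Lib.Helper5.AutSU
open Cfsg.Agent.Lib.Helper5.AutDO Cfsg.Agent.AutPM
open Cfsg.Agent.AutPSU (upT loT dgT moT Quad)
open scoped MatrixGroups

variable {N : ℕ} {F K : Type*} [Field F] [Field K]

/-- a matrix commuting with a root element of type `D` has a column supported on two rows -/
theorem col_supp_of_comm {Z : Matrix (Fin N) (Fin N) K} {a b : Fin N} (hab' : a ≠ b.rev) (c : K)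
    (hc : c ≠ 0) (h : Z * (1 + eS a b c) = (1 + eS a b c) * Z) (i : Fin N) (hia : i ≠ a)
    (hib : i ≠ b.rev) : Z i a = 0 := by
  have h1 : Z * eS a b c = eS a b c * Z := by
    rw [Matrix.mul_add, Matrix.add_mul, Matrix.mul_one, Matrix.one_mul] at h
    exact add_left_cancel h
  have hb : b ≠ a.rev := fun e => hab' (by rw [e, Fin.rev_rev])
  have h2 := congrFun (congrFun h1 i) b
  unfold eS at h2
  rw [Matrix.mul_sub, Matrix.sub_mul, Matrix.sub_apply, Matrix.sub_apply,
    Matrix.mul_single_apply_same, Matrix.mul_single_apply_of_ne _ _ _ _ _ hb,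
    Matrix.single_mul_apply_of_ne _ _ _ _ _ hia, Matrix.single_mul_apply_of_ne _ _ _ _ _ hib,
    sub_zero, sub_zero] at h2
  rcases mul_eq_zero.1 h2 with h3 | h3
  · exact h3
  · exact absurd h3 hc

/-- a diagonal matrix commuting with `X` has equal diagonal entries at the positions of the
non-zero entries of `X` -/
theorem diag_eq_of_commM {Z X : Matrix (Fin N) (Fin N) K} (hZ : ∀ i k, i ≠ k → Z i k = 0)
    (h : Z * X = X * Z) (a b : Fin N) (hX : X a b ≠ 0) : Z a a = Z b b := by
  have h1 := congrFun (congrFun h a) b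
  rw [Matrix.mul_apply, Matrix.mul_apply, Finset.sum_eq_single a, Finset.sum_eq_single b] at h1
  · rw [mul_comm] at h1
    exact mul_left_cancel₀ hX h1
  · intro m _ hm
    rw [hZ m b hm, mul_zero]
  · intro hb
    exact absurd (Finset.mem_univ b) hb
  · intro m _ hm
    rw [hZ a m hm.symm, zero_mul]
  · intro ha
    exact absurd (Finset.mem_univ a) ha

variable [Fintype K] (C : MC N F K)

/-- a central element commutes with every element, as matrices -/
theorem center_comm {z : Mm C} (hz : z ∈ Subgroup.center (Mm C)) (x : Mm C) :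
    ((gm C z : GL (Fin N) K) : Matrix (Fin N) (Fin N) K)
        * ((gm C x : GL (Fin N) K) : Matrix (Fin N) (Fin N) K)
      = ((gm C x : GL (Fin N) K) : Matrix (Fin N) (Fin N) K)
        * ((gm C z : GL (Fin N) K) : Matrix (Fin N) (Fin N) K) := by
  rw [← Units.val_mul, ← Units.val_mul, ← gm_mul, ← gm_mul, Subgroup.mem_center_iff.1 hz x]

/-- the first column of a central element is supported on the diagonal -/
theorem center_col_zero (hκ : 1 ≤ C.κ) {z : Mm C} (hz : z ∈ Subgroup.center (Mm C)) (i : Fin N)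
    (hi : i ≠ C.ia 0 (Nat.zero_le _)) :
    ((gm C z : GL (Fin N) K) : Matrix (Fin N) (Fin N) K) i (C.ia 0 (Nat.zero_le _)) = 0 := by
  have hN := C.hN
  have ha := C.NM_ia 0 (Nat.zero_le _)
  have hb := C.NM_ia 1 hκ
  have hbr : (((C.ia 1 hκ).rev : Fin N) : ℕ) = N - (1 + 1) := C.ia_rev_val 1 hκ
  have h01 : C.ia 0 (Nat.zero_le _) ≠ C.ia 1 hκ := fin_ne (by rw [MC.ia_val, MC.ia_val]; omega)
  have h01' : C.ia 0 (Nat.zero_le _) ≠ (C.ia 1 hκ).rev :=
    fin_ne (by rw [hbr, MC.ia_val]; omega)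
  have q1 : Quad (C.ia 0 (Nat.zero_le _)) (C.ia 1 hκ) := quadOf C.even h01 h01'
  have q2 : Quad (C.ia 0 (Nat.zero_le _)) (C.ia 1 hκ).rev :=
    quadOf C.even h01' (by rw [Fin.rev_rev]; exact h01)
  have hι : C.ι 1 ≠ 0 := by
    rw [map_one]
    exact one_ne_zero
  have c1 := center_comm C hz (xL C q1 (by rw [Fin.lt_def, MC.ia_val, MC.ia_val]; omega) ha hb 1)
  rw [gm_xL, xS_coe_eq _ _ q1.ne q1.h11] at c1
  have c2 := center_comm C hz (xL C q2 (by rw [Fin.lt_def, hbr, MC.ia_val]; omega) ha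
    (C.NM_rev hb) 1)
  rw [gm_xL, xS_coe_eq _ _ q2.ne q2.h11] at c2
  by_cases h : i = (C.ia 1 hκ).rev
  · refine col_supp_of_comm q2.h01 _ hι c2 i hi ?_
    rw [Fin.rev_rev, h]
    exact q1.h11.symm
  · exact col_supp_of_comm q1.h01 _ hι c1 i hi h

/-- the Weyl group of the model is transitive on the coordinates outside the middle -/
theorem exists_move_zero (m : Fin N) (hm : C.NM m) :
    ∃ w ∈ WM C, w m = C.ia 0 (Nat.zero_le _) := by
  have hN := C.hN
  have hmN := m.2
  obtain ⟨h1, h2⟩ := C.NM_val hm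
  rcases Nat.lt_or_ge (m : ℕ) (C.κ + 1) with h | h
  · obtain ⟨w, hw, e, -⟩ := move1 C 0 (m : ℕ) m (by omega) (by omega)
    exact ⟨w, hw, Fin.ext e⟩
  · obtain ⟨w, hw, e, -⟩ := move2 C 0 (Nat.zero_le _) ((m : ℕ) - (C.κ + 3)) m (by omega) (by omega)
    exact ⟨w, hw, Fin.ext e⟩

/-- the columns outside the middle of a central element are supported on the diagonal -/
theorem center_col (hκ : 1 ≤ C.κ) {z : Mm C} (hz : z ∈ Subgroup.center (Mm C)) (m : Fin N)
    (hm : C.NM m) (i : Fin N) (hi : i ≠ m) :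
    ((gm C z : GL (Fin N) K) : Matrix (Fin N) (Fin N) K) i m = 0 := by
  obtain ⟨w, hw, e⟩ := exists_move_zero C m hm
  obtain ⟨n, -, hn⟩ := exists_lift C hw
  have e1 : n⁻¹ * z * n = z := by
    rw [mul_assoc, ← Subgroup.mem_center_iff.1 hz n, ← mul_assoc, inv_mul_cancel, one_mul]
  have e2 : gm C z = (gm C n)⁻¹ * gm C z * gm C n := by
    conv_lhs => rw [← e1]
    rw [gm_mul, gm_mul, gm_inv]
  rw [e2, mono_conj_apply hn, e,
    center_col_zero C hκ hz (w i) (fun h => hi (w.injective (h.trans e.symm))), mul_zero, zero_mul]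

/-- the rows outside the middle of a central element are supported on the diagonal -/
theorem center_row (hκ : 1 ≤ C.κ) {z : Mm C} (hz : z ∈ Subgroup.center (Mm C)) (m : Fin N)
    (hm : C.NM m) (k : Fin N) (hk : k ≠ m) :
    ((gm C z : GL (Fin N) K) : Matrix (Fin N) (Fin N) K) m k = 0 := by
  have h1 := (mem_UH_iff (φ := RingHom.id K)).1 (gm_mem_UH C z) m k
  rw [h1, RingHom.id_apply, ← gm_inv]
  exact center_col C hκ (inv_mem hz) m.rev (C.NM_rev hm) k.rev
    (fun e => hk (Fin.rev_injective e))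

/-- the entries of a short root element in the row of its coordinate -/
theorem tw_apply_p1_rev {a : Fin N} (ha : C.NM a) (s : K) :
    ((gl (C.tw ha s) : GL (Fin N) K) : Matrix (Fin N) (Fin N) K) a C.D.p1.rev = C.cj s := by
  have q1 := C.quad1 ha
  have q2 := C.quad2 ha
  have n5 : C.D.p1.rev ≠ a.rev := fun h => q1.ne (Fin.rev_injective h).symm
  rw [C.tw_apply]
  simp [q2.ne, C.D.p1_ne.symm, n5]

/-- the middle block of a central element -/
theorem center_mid (hκ : 1 ≤ C.κ) {z : Mm C} (hz : z ∈ Subgroup.center (Mm C)) :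
    ((gm C z : GL (Fin N) K) : Matrix (Fin N) (Fin N) K) C.D.p1.rev C.D.p1 = 0 ∧
      ((gm C z : GL (Fin N) K) : Matrix (Fin N) (Fin N) K) C.D.p1 C.D.p1.rev = 0 := by
  have ha := C.NM_ia C.κ le_rfl
  have q1 := C.quad1 ha
  have q2 := C.quad2 ha
  have n4 : C.D.p1 ≠ (C.ia C.κ le_rfl).rev := fun h => q2.ne (by rw [h, Fin.rev_rev])
  have n5 : C.D.p1.rev ≠ (C.ia C.κ le_rfl).rev := fun h => q1.ne (Fin.rev_injective h).symm
  -- the two equations for every parameter
  have key : ∀ s : K,
      ((gm C z : GL (Fin N) K) : Matrix (Fin N) (Fin N) K) (C.ia C.κ le_rfl) (C.ia C.κ le_rfl) * s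
        = s * ((gm C z : GL (Fin N) K) : Matrix (Fin N) (Fin N) K) C.D.p1 C.D.p1
          + C.cj s * ((gm C z : GL (Fin N) K) : Matrix (Fin N) (Fin N) K) C.D.p1.rev C.D.p1 ∧
      ((gm C z : GL (Fin N) K) : Matrix (Fin N) (Fin N) K) (C.ia C.κ le_rfl) (C.ia C.κ le_rfl)
          * C.cj s
        = s * ((gm C z : GL (Fin N) K) : Matrix (Fin N) (Fin N) K) C.D.p1 C.D.p1.rev
          + C.cj s * ((gm C z : GL (Fin N) K) : Matrix (Fin N) (Fin N) K) C.D.p1.rev
            C.D.p1.rev := by
    intro s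
    have hc := center_comm C hz (tMm C (upT s))
    have e : gm C (tMm C (upT s)) = gl (C.tw ha s) := by
      unfold gm
      rw [tMm_upT_coe]
    rw [e] at hc
    constructor
    · have h1 := congrFun (congrFun hc (C.ia C.κ le_rfl)) C.D.p1
      rw [C.mul_tw_apply, if_pos rfl, if_neg C.D.p1_ne, if_neg n4,
        center_row C hκ hz _ ha _ q1.ne.symm, zero_add, add_zero, add_zero, Matrix.mul_apply,
        Finset.sum_eq_add_of_mem C.D.p1 C.D.p1.rev (Finset.mem_univ _) (Finset.mem_univ _)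
          C.D.p1_ne, C.tw_apply_p1, tw_apply_p1_rev] at h1
      · exact h1
      · intro c _ hc'
        rw [center_row C hκ hz c (C.NM_of_ne hc'.1 hc'.2) _ hc'.1.symm, mul_zero]
    · have h1 := congrFun (congrFun hc (C.ia C.κ le_rfl)) C.D.p1.rev
      rw [C.mul_tw_apply, if_neg C.D.p1_ne.symm, if_pos rfl, if_neg n5,
        center_row C hκ hz _ ha _ q2.ne.symm, zero_add, zero_add, add_zero, Matrix.mul_apply,
        Finset.sum_eq_add_of_mem C.D.p1 C.D.p1.rev (Finset.mem_univ _) (Finset.mem_univ _)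
          C.D.p1_ne, C.tw_apply_p1, tw_apply_p1_rev] at h1
      · exact h1
      · intro c _ hc'
        rw [center_row C hκ hz c (C.NM_of_ne hc'.1 hc'.2) _ hc'.2.symm, mul_zero]
  obtain ⟨ω, hω⟩ := C.hne
  obtain ⟨k1, k2⟩ := key 1
  obtain ⟨k3, k4⟩ := key ω
  rw [map_one, mul_one, one_mul, one_mul] at k1 k2
  have hne : C.cj ω - ω ≠ 0 := sub_ne_zero.2 hω
  constructor
  · have h : (C.cj ω - ω)
        * ((gm C z : GL (Fin N) K) : Matrix (Fin N) (Fin N) K) C.D.p1.rev C.D.p1 = 0 := by
      linear_combination ω * k1 - k3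
    rcases mul_eq_zero.1 h with h' | h'
    · exact absurd h' hne
    · exact h'
  · have h : (C.cj ω - ω)
        * ((gm C z : GL (Fin N) K) : Matrix (Fin N) (Fin N) K) C.D.p1 C.D.p1.rev = 0 := by
      linear_combination k4 - C.cj ω * k2
    rcases mul_eq_zero.1 h with h' | h'
    · exact absurd h' hne
    · exact h'

/-- a central element is diagonal -/
theorem center_offdiag (hκ : 1 ≤ C.κ) {z : Mm C} (hz : z ∈ Subgroup.center (Mm C)) (i k : Fin N)
    (hik : i ≠ k) : ((gm C z : GL (Fin N) K) : Matrix (Fin N) (Fin N) K) i k = 0 := by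
  by_cases h1 : C.NM i
  · exact center_row C hκ hz i h1 k hik.symm
  · by_cases h2 : C.NM k
    · exact center_col C hκ hz k h2 i hik
    · -- both in the middle
      have hi : i = C.D.p1 ∨ i = C.D.p1.rev := by
        by_contra hcon
        have := not_or.1 hcon
        exact h1 (C.NM_of_ne this.1 this.2)
      have hk : k = C.D.p1 ∨ k = C.D.p1.rev := by
        by_contra hcon
        have := not_or.1 hcon
        exact h2 (C.NM_of_ne this.1 this.2)
      obtain ⟨m1, m2⟩ := center_mid C hκ hz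
      rcases hi with rfl | rfl <;> rcases hk with rfl | rfl
      · exact absurd rfl hik
      · exact m2
      · exact m1
      · exact absurd rfl hik

/-- the diagonal entries of a central element along a chain node -/
theorem center_diag_chain (hκ : 1 ≤ C.κ) {z : Mm C} (hz : z ∈ Subgroup.center (Mm C)) {j : ℕ}
    (hj : j < C.κ) :
    ((gm C z : GL (Fin N) K) : Matrix (Fin N) (Fin N) K) (C.ia j (le_of_lt hj))
        (C.ia j (le_of_lt hj))
      = ((gm C z : GL (Fin N) K) : Matrix (Fin N) (Fin N) K) (C.ia (j + 1) hj) (C.ia (j + 1) hj) ∧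
    ((gm C z : GL (Fin N) K) : Matrix (Fin N) (Fin N) K) (C.ia (j + 1) hj).rev
        (C.ia (j + 1) hj).rev
      = ((gm C z : GL (Fin N) K) : Matrix (Fin N) (Fin N) K) (C.ia j (le_of_lt hj)).rev
        (C.ia j (le_of_lt hj)).rev := by
  have q := C.quadC j hj
  have hc := center_comm C hz (sMm C j hj (upT 1))
  rw [gm_sMm_upT, map_one] at hc
  constructor
  · apply diag_eq_of_commM (center_offdiag C hκ hz) hc
    rw [xS_apply_self _ _ _ _ q.h11 (fun e => q.h01 e.symm)]
    exact one_ne_zero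
  · apply diag_eq_of_commM (center_offdiag C hκ hz) hc
    rw [xS_apply _ _ _ _ q.h11, if_neg (fun e => q.ne (Fin.rev_injective e).symm),
      if_neg (fun e => q.h01 e.1), if_pos ⟨rfl, rfl⟩, zero_add, zero_add, RingHom.id_apply]
    exact neg_ne_zero.2 one_ne_zero

/-- the diagonal entries of a central element along the twisted node -/
theorem center_diag_twist (hκ : 1 ≤ C.κ) {z : Mm C} (hz : z ∈ Subgroup.center (Mm C)) :
    ((gm C z : GL (Fin N) K) : Matrix (Fin N) (Fin N) K) (C.ia C.κ le_rfl) (C.ia C.κ le_rfl)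
      = ((gm C z : GL (Fin N) K) : Matrix (Fin N) (Fin N) K) C.D.p1 C.D.p1 ∧
    ((gm C z : GL (Fin N) K) : Matrix (Fin N) (Fin N) K) (C.ia C.κ le_rfl) (C.ia C.κ le_rfl)
      = ((gm C z : GL (Fin N) K) : Matrix (Fin N) (Fin N) K) C.D.p1.rev C.D.p1.rev ∧
    ((gm C z : GL (Fin N) K) : Matrix (Fin N) (Fin N) K) C.D.p1.rev C.D.p1.rev
      = ((gm C z : GL (Fin N) K) : Matrix (Fin N) (Fin N) K) (C.ia C.κ le_rfl).rev
        (C.ia C.κ le_rfl).rev := by
  have ha := C.NM_ia C.κ le_rfl
  have q1 := C.quad1 ha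
  have q2 := C.quad2 ha
  have n5 : C.D.p1.rev ≠ (C.ia C.κ le_rfl).rev := fun h => q1.ne (Fin.rev_injective h).symm
  have hc := center_comm C hz (tMm C (upT 1))
  have e : gm C (tMm C (upT 1)) = gl (C.tw ha 1) := by
    unfold gm
    rw [tMm_upT_coe]
  rw [e] at hc
  refine ⟨?_, ?_, ?_⟩
  · apply diag_eq_of_commM (center_offdiag C hκ hz) hc
    rw [C.tw_apply_p1]
    exact one_ne_zero
  · apply diag_eq_of_commM (center_offdiag C hκ hz) hc
    rw [tw_apply_p1_rev, map_one]
    exact one_ne_zero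
  · apply diag_eq_of_commM (center_offdiag C hκ hz) hc
    have n4 : C.D.p1 ≠ (C.ia C.κ le_rfl).rev := fun h => q2.ne (by rw [h, Fin.rev_rev])
    rw [C.tw_apply]
    simp [n5, n4.symm, n5.symm, q2.ne.symm, C.D.p1_ne.symm]

/-- **the centre of the model consists of scalar matrices** -/
theorem center_scalarM (hκ : 1 ≤ C.κ) {z : Mm C} (hz : z ∈ Subgroup.center (Mm C)) :
    ∃ c : K, ((gm C z : GL (Fin N) K) : Matrix (Fin N) (Fin N) K) = Matrix.diagonal fun _ => c := by
  have hN := C.hN
  have hκ' : C.D.κ = C.κ := rfl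
  obtain ⟨t1, t2, t3⟩ := center_diag_twist C hκ hz
  -- the first half
  have k1 : ∀ (j : ℕ) (hj : j ≤ C.κ),
      ((gm C z : GL (Fin N) K) : Matrix (Fin N) (Fin N) K) (C.ia j hj) (C.ia j hj)
        = ((gm C z : GL (Fin N) K) : Matrix (Fin N) (Fin N) K) (C.ia 0 (Nat.zero_le _))
          (C.ia 0 (Nat.zero_le _)) := by
    intro j
    induction j with
    | zero => intro _; rfl
    | succ j ih =>
      intro hj
      rw [← ih (by omega)]
      exact ((center_diag_chain C hκ hz (j := j) (by omega)).1).symm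
  -- the second half
  have k2 : ∀ (d j : ℕ) (hj : j ≤ C.κ), j + d = C.κ →
      ((gm C z : GL (Fin N) K) : Matrix (Fin N) (Fin N) K) (C.ia j hj).rev (C.ia j hj).rev
        = ((gm C z : GL (Fin N) K) : Matrix (Fin N) (Fin N) K) (C.ia 0 (Nat.zero_le _))
          (C.ia 0 (Nat.zero_le _)) := by
    intro d
    induction d with
    | zero =>
      intro j hj hjd
      have e : j = C.κ := by omega
      subst e
      rw [← t3, ← t2]
      exact k1 C.κ le_rfl
    | succ d ih =>
      intro j hj hjd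
      rw [← ih (j + 1) (by omega) (by omega)]
      exact ((center_diag_chain C hκ hz (j := j) (by omega)).2).symm
  refine ⟨((gm C z : GL (Fin N) K) : Matrix (Fin N) (Fin N) K) (C.ia 0 (Nat.zero_le _))
    (C.ia 0 (Nat.zero_le _)), ?_⟩
  ext i k
  by_cases hik : i = k
  · subst hik
    rw [Matrix.diagonal_apply_eq]
    have hi := i.2
    rcases Nat.lt_or_ge (i : ℕ) (C.κ + 1) with h1 | h1
    · have e : i = C.ia (i : ℕ) (by omega) := Fin.ext rfl
      rw [e]
      exact k1 _ _
    · rcases Nat.lt_or_ge (i : ℕ) (C.κ + 3) with h2 | h2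
      · rcases Nat.lt_or_ge (i : ℕ) (C.κ + 2) with h3 | h3
        · have e : i = C.D.p1 := Fin.ext (by rw [C.D.p1_val]; omega)
          rw [e, ← t1]
          exact k1 C.κ le_rfl
        · have e : i = C.D.p1.rev := Fin.ext (by rw [C.D.p1_rev_val]; omega)
          rw [e, ← t2]
          exact k1 C.κ le_rfl
      · have e : i = (C.ia (N - 1 - (i : ℕ)) (by omega)).rev := by
          apply Fin.ext
          rw [MC.ia_rev_val]
          omega
        rw [e]
        exact k2 (C.κ - (N - 1 - (i : ℕ))) _ _ (by omega)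
  · rw [Matrix.diagonal_apply_ne _ hik]
    exact center_offdiag C hκ hz i k hik

end Cfsg.Agent.Lib.Helper5.AutDM
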