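import Cfsg.Agent.Lib.Helper5.AutDM.Order
import Cfsg.Agent.Lib.Helper5.AutSU.Facts5
import Cfsg.Agent.Lib.Helper8.AutDm.FactsE
import Mathlib

/-!
# `Ω⁻_{2κ+4}(F)`: commutation of the fundamental root subgroups of the model (helper5)

`hcommM` : positive and negative fundamental root subgroups of distinct nodes commute;
`hncommM` : opposite fundamental root subgroups do not commute modulo the centre;
`mem_YC_iff` : the parametrisation of the negative root subgroup of a chain node;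
`UM_inf_ker`, `f_inj_UM` : a homomorphism with central kernel is injective on `UM`.
-/

set_option autoImplicit false

namespace Cfsg.Agent.Lib.Helper5.AutDM

open Matrix Cfsg Cfsg.Agent.Lib.Helper5.GLBN Cfsg.Agent.Lib.Helper8.SpBN
open Cfsg.Agent.Lib.Helper8.Tw Cfsg.Agent.PSUT Cfsg.Agent.Lib.Helper5.AutSU
open Cfsg.Agent.Lib.Helper5.AutDO Cfsg.Agent.AutPM
open Cfsg.Agent.Lib.Helper5.AutBN Cfsg.Agent.Lib.Helper8.AutSp
open Cfsg.Agent.AutPSU (upT loT dgT moT)
open scoped MatrixGroups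

variable {N : ℕ} {F K : Type*} [Field F] [Field K] [Fintype K] (C : MC N F K)

theorem sh_sub_one_ne {P : Fin N → Fin N → Prop} {g : SUm N K (RingHom.id K)}
    (hg : g ∈ Sh N K (RingHom.id K) P) {a b : Fin N}
    (hne : (((gl g : GL (Fin N) K) : Matrix (Fin N) (Fin N) K) - 1) a b ≠ 0) : a ≠ b ∧ P a b := by
  rw [Matrix.sub_apply] at hne
  have hab : a ≠ b := by
    rintro rfl
    rw [hg.1 a, Matrix.one_apply_eq, sub_self] at hne
    exact hne rfl
  refine ⟨hab, ?_⟩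
  by_contra hn
  rw [hg.2 a b hab hn, Matrix.one_apply_ne hab, sub_zero] at hne
  exact hne rfl

/-- elements with non-composable shapes commute -/
theorem sh_comm {P Q : Fin N → Fin N → Prop} {x y : SUm N K (RingHom.id K)}
    (hx : x ∈ Sh N K (RingHom.id K) P) (hy : y ∈ Sh N K (RingHom.id K) Q)
    (h1 : ∀ a b c, P a b → Q b c → False)
    (h2 : ∀ a b c, Q a b → P b c → False) : x * y = y * x := by
  apply gl_injective
  apply Units.ext
  rw [gl_mul, gl_mul, Units.val_mul, Units.val_mul]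
  apply comm_of_mul_zero
  · ext a c
    rw [Matrix.mul_apply, Matrix.zero_apply]
    apply Finset.sum_eq_zero
    intro b _
    by_contra hne
    exact h1 a b c (sh_sub_one_ne hx (left_ne_zero_of_mul hne)).2
      (sh_sub_one_ne hy (right_ne_zero_of_mul hne)).2
  · ext a c
    rw [Matrix.mul_apply, Matrix.zero_apply]
    apply Finset.sum_eq_zero
    intro b _
    by_contra hne
    exact h2 a b c (sh_sub_one_ne hy (left_ne_zero_of_mul hne)).2
      (sh_sub_one_ne hx (right_ne_zero_of_mul hne)).2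

/-- the positions of the positive root of the twisted node -/
theorem PT_ia_val {b c : Fin N} (h : C.PT (C.ia C.κ le_rfl) b c) :
    ((b : ℕ) = C.κ ∧ ((c : ℕ) = C.κ + 1 ∨ (c : ℕ) = C.κ + 2 ∨ (c : ℕ) = C.κ + 3)) ∨
    ((c : ℕ) = C.κ + 3 ∧ ((b : ℕ) = C.κ + 1 ∨ (b : ℕ) = C.κ + 2)) := by
  have hN := C.hN
  have e1 : ((C.ia C.κ le_rfl : Fin N) : ℕ) = C.κ := rfl
  have e2 : ((C.D.p1 : Fin N) : ℕ) = C.κ + 1 := rfl
  have e3 : ((C.D.p1.rev : Fin N) : ℕ) = C.κ + 2 := by
    rw [C.D.p1_rev_val]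
    rfl
  have e4 : (((C.ia C.κ le_rfl).rev : Fin N) : ℕ) = C.κ + 3 := by
    rw [C.ia_rev_val]
    omega
  unfold MC.PT at h
  rcases h with ⟨h1, h2 | h2 | h2⟩ | ⟨h1, h2 | h2⟩
  all_goals
    have h1' := congrArg Fin.val h1
    have h2' := congrArg Fin.val h2
    omega

/-- the positions of the negative root of the twisted node -/
theorem PT_ia_rev_val {b c : Fin N} (h : C.PT (C.ia C.κ le_rfl).rev b c) :
    ((b : ℕ) = C.κ + 3 ∧ ((c : ℕ) = C.κ + 1 ∨ (c : ℕ) = C.κ + 2 ∨ (c : ℕ) = C.κ)) ∨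
    ((c : ℕ) = C.κ ∧ ((b : ℕ) = C.κ + 1 ∨ (b : ℕ) = C.κ + 2)) := by
  have hN := C.hN
  have e1 : ((C.ia C.κ le_rfl : Fin N) : ℕ) = C.κ := rfl
  have e2 : ((C.D.p1 : Fin N) : ℕ) = C.κ + 1 := rfl
  have e3 : ((C.D.p1.rev : Fin N) : ℕ) = C.κ + 2 := by
    rw [C.D.p1_rev_val]
    rfl
  have e4 : (((C.ia C.κ le_rfl).rev : Fin N) : ℕ) = C.κ + 3 := by
    rw [C.ia_rev_val]
    omega
  unfold MC.PT at h
  rw [Fin.rev_rev] at h
  rcases h with ⟨h1, h2 | h2 | h2⟩ | ⟨h1, h2 | h2⟩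
  all_goals
    have h1' := congrArg Fin.val h1
    have h2' := congrArg Fin.val h2
    omega

/-- **positive and negative fundamental root subgroups of distinct nodes commute** -/
theorem hcommM (i j : Fin (C.κ + 1)) (hij : i ≠ j) {x y : Mm C}
    (hx : x ∈ XM C i) (hy : y ∈ YM C j) : x * y = y * x := by
  have hN := C.hN
  have hi2 := i.2
  have hj2 := j.2
  have hij' : (i : ℕ) ≠ j := fun e => hij (Fin.ext e)
  rw [mem_XM_iff] at hx
  rw [mem_YM_iff] at hy
  apply Subtype.ext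
  show (x : SUm N K (RingHom.id K)) * y = y * x
  apply sh_comm hx hy
  · intro a b c hP hQ
    have ha := a.2
    have hb := b.2
    have hc := c.2
    unfold PXM at hP
    unfold PYM at hQ
    by_cases hi : (i : ℕ) < C.κ
    · rw [if_pos hi] at hP
      obtain ⟨hP1, hP2⟩ := hP
      rw [Fin.lt_def] at hP1
      unfold blk at hP2
      by_cases hj : (j : ℕ) < C.κ
      · rw [if_pos hj] at hQ
        obtain ⟨hQ1, hQ2⟩ := hQ
        rw [Fin.lt_def] at hQ1
        unfold blk at hQ2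
        omega
      · rw [if_neg hj] at hQ
        have := PT_ia_rev_val C hQ
        omega
    · rw [if_neg hi] at hP
      have h1 := PT_ia_val C hP
      have hj : (j : ℕ) < C.κ := by omega
      rw [if_pos hj] at hQ
      obtain ⟨hQ1, hQ2⟩ := hQ
      rw [Fin.lt_def] at hQ1
      unfold blk at hQ2
      omega
  · intro a b c hQ hP
    have ha := a.2
    have hb := b.2
    have hc := c.2
    unfold PXM at hP
    unfold PYM at hQ
    by_cases hi : (i : ℕ) < C.κ
    · rw [if_pos hi] at hP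
      obtain ⟨hP1, hP2⟩ := hP
      rw [Fin.lt_def] at hP1
      unfold blk at hP2
      by_cases hj : (j : ℕ) < C.κ
      · rw [if_pos hj] at hQ
        obtain ⟨hQ1, hQ2⟩ := hQ
        rw [Fin.lt_def] at hQ1
        unfold blk at hQ2
        omega
      · rw [if_neg hj] at hQ
        have := PT_ia_rev_val C hQ
        omega
    · rw [if_neg hi] at hP
      have h1 := PT_ia_val C hP
      have hj : (j : ℕ) < C.κ := by omega
      rw [if_pos hj] at hQ
      obtain ⟨hQ1, hQ2⟩ := hQ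
      rw [Fin.lt_def] at hQ1
      unfold blk at hQ2
      omega

/-- the parametrisation of the negative root subgroup of a chain node -/
theorem mem_YC_iff {j : ℕ} (hj : j < C.κ) {g : Mm C} :
    g ∈ YC C j ↔ ∃ t : F, g = sMm C j hj (loT t) := by
  rw [mem_YC, mem_Xm_short_iff idinv (C.hj_of_lt hj)]
  constructor
  · rintro ⟨c, hc⟩
    have hent : ((gl (xmS idinv j (C.hj_of_lt hj) c : SUm N K (RingHom.id K)) : GL (Fin N) K)
        : Matrix (Fin N) (Fin N) K) (C.ia (j + 1) hj) (C.ia j (le_of_lt hj)) = c := by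
      rw [gl_xmS]
      exact xS_apply_self _ _ _ _ (C.quadC j hj).h00 (fun e => (C.quadC j hj).h10 e.symm) c
    have hfix : C.cj c = c := by
      have h3 := gm_cj C g (C.ia (j + 1) hj) (C.ia j (le_of_lt hj))
      unfold gm at h3
      rw [C.NM_ia j (le_of_lt hj), C.NM_ia (j + 1) hj, hc, hent] at h3
      exact h3
    obtain ⟨t, rfl⟩ := C.hfix c hfix
    refine ⟨t, Subtype.ext ?_⟩
    rw [hc, sMm_loT_coe]
  · rintro ⟨t, rfl⟩
    exact ⟨C.ι t, sMm_loT_coe C j hj t⟩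

/-- the negative root elements of the twisted node are short root elements -/
theorem YT_eq_tw {y : Mm C} (hy : y ∈ YT C) :
    (y : SUm N K (RingHom.id K)) = C.tw (C.NM_rev (C.NM_ia C.κ le_rfl))
      (((gl (y : SUm N K (RingHom.id K)) : GL (Fin N) K) : Matrix (Fin N) (Fin N) K)
        (C.ia C.κ le_rfl).rev C.D.p1) :=
  C.sh_PT_eq (C.NM_rev (C.NM_ia C.κ le_rfl)) ((mem_YT_sh C).1 hy) (C.G0_le_SM y.2)

theorem tMm_upT_ne_one {t : K} (ht : t ≠ 0) : tMm C (upT t) ≠ 1 := by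
  intro h
  have h3 := congrArg (fun g : Mm C => ((gm C g : GL (Fin N) K) : Matrix (Fin N) (Fin N) K)
    (C.ia C.κ le_rfl) C.D.p1) h
  rw [gm_one] at h3
  unfold gm at h3
  rw [tMm_upT_coe, C.tw_apply_p1, Units.val_one,
    Matrix.one_apply_ne (C.quad1 (C.NM_ia C.κ le_rfl)).ne] at h3
  exact ht h3

theorem tMm_loT_ne_one {t : K} (ht : t ≠ 0) : tMm C (loT t) ≠ 1 := by
  intro h
  rw [tMm_loT] at h
  have h2 : tMm C (upT (-t)) = 1 := by
    have := congrArg (fun g => (nTm C)⁻¹ * g * nTm C) h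
    simp only [mul_one, inv_mul_cancel] at this
    rw [← this]
    group
  exact tMm_upT_ne_one C (neg_ne_zero.2 ht) h2

set_option maxHeartbeats 1000000 in
/-- the twisted node: opposite root elements do not commute modulo the centre -/
theorem ncenter_twist (hκ : 1 ≤ C.κ) :
    (tMm C (upT 1) * tMm C (loT 1)) * (tMm C (loT 1) * tMm C (upT 1))⁻¹
      ∉ Subgroup.center (Mm C) := by
  intro hz
  obtain ⟨c, hc⟩ := center_scalarM C hκ hz
  have ha := C.NM_ia C.κ le_rfl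
  have ha' := C.NM_rev ha
  have q1 := C.quad1 ha
  have q2 := C.quad2 ha
  have n1 : C.ia C.κ le_rfl ≠ C.D.p1 := q1.ne
  have n2 : C.ia C.κ le_rfl ≠ C.D.p1.rev := q2.ne
  have n3 : C.ia C.κ le_rfl ≠ (C.ia C.κ le_rfl).rev := q1.h00
  have n4 : C.D.p1 ≠ (C.ia C.κ le_rfl).rev := fun h => n2 (by rw [h, Fin.rev_rev])
  have n5 : C.D.p1.rev ≠ (C.ia C.κ le_rfl).rev := fun h => n1 (Fin.rev_injective h).symm
  have n6 := C.D.p1_ne
  have hy := YT_eq_tw C ((mem_YT C).2 ⟨1, rfl⟩)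
  set s' := ((gl ((tMm C (loT 1) : Mm C) : SUm N K (RingHom.id K)) : GL (Fin N) K)
    : Matrix (Fin N) (Fin N) K) (C.ia C.κ le_rfl).rev C.D.p1 with hs'
  have hs0 : s' ≠ 0 := by
    intro h0
    rw [h0, C.tw_zero] at hy
    exact tMm_loT_ne_one C one_ne_zero (Subtype.ext hy)
  have hX : gm C (tMm C (upT 1)) = gl (C.tw ha 1) := by
    unfold gm
    rw [tMm_upT_coe]
  have hY : gm C (tMm C (loT 1)) = gl (C.tw ha' s') := by
    unfold gm
    rw [hy]
  have e : tMm C (upT 1) * tMm C (loT 1)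
      = ((tMm C (upT 1) * tMm C (loT 1)) * (tMm C (loT 1) * tMm C (upT 1))⁻¹)
        * (tMm C (loT 1) * tMm C (upT 1)) := by group
  have e' := congrArg (fun g => ((gm C g : GL (Fin N) K) : Matrix (Fin N) (Fin N) K)) e
  rw [gm_mul, gm_mul _ (_ * _ * _⁻¹), Units.val_mul, Units.val_mul, hc, gm_mul, Units.val_mul,
    hX, hY] at e'
  -- the entry `(a', a)`
  have h1 := congrFun (congrFun e' (C.ia C.κ le_rfl).rev) (C.ia C.κ le_rfl)
  rw [Matrix.diagonal_mul, C.mul_tw_apply, C.mul_tw_apply] at h1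
  simp only [C.tw_apply] at h1
  simp [n1, n2, n1.symm, n2.symm, n3, n3.symm, n4, n4.symm, n5, n5.symm, n6, n6.symm] at h1
  have hcj : C.cj s' ≠ 0 := (map_ne_zero C.cj).2 hs0
  have hc1 : c = 1 := by
    have h2 : (c - 1) * (s' * C.cj s') = 0 := by
      rw [sub_mul, one_mul, ← h1, sub_self]
    rcases mul_eq_zero.1 h2 with h3 | h3
    · exact sub_eq_zero.1 h3
    · exact absurd h3 (mul_ne_zero hs0 hcj)
  -- the entry `(a, p1)`
  have h4 := congrFun (congrFun e' (C.ia C.κ le_rfl)) C.D.p1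
  rw [Matrix.diagonal_mul, C.mul_tw_apply, C.mul_tw_apply] at h4
  simp only [C.tw_apply] at h4
  simp [n1, n2, n1.symm, n2.symm, n3, n3.symm, n4, n4.symm, n5, n5.symm, n6, n6.symm, hc1] at h4
  exact hs0 h4

/-- chain nodes: opposite root elements do not commute modulo the centre -/
theorem ncenter_chainM (hκ : 1 ≤ C.κ) {j : ℕ} (hj : j < C.κ) :
    (sMm C j hj (upT 1) * sMm C j hj (loT 1)) * (sMm C j hj (loT 1) * sMm C j hj (upT 1))⁻¹
      ∉ Subgroup.center (Mm C) := by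
  intro hz
  obtain ⟨c, hc⟩ := center_scalarM C hκ hz
  have q := C.quadC j hj
  have e : sMm C j hj (upT 1) * sMm C j hj (loT 1)
      = ((sMm C j hj (upT 1) * sMm C j hj (loT 1))
          * (sMm C j hj (loT 1) * sMm C j hj (upT 1))⁻¹)
        * (sMm C j hj (loT 1) * sMm C j hj (upT 1)) := by group
  have e' := congrArg (fun g => ((gm C g : GL (Fin N) K) : Matrix (Fin N) (Fin N) K)) e
  rw [gm_mul, gm_mul _ (_ * _ * _⁻¹), Units.val_mul, Units.val_mul, hc, gm_mul, Units.val_mul,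
    gm_sMm_upT, gm_sMm_loT, map_one, xS_coe_eq _ _ _ q.h11, xS_coe_eq _ _ _ q.h00] at e'
  exact Cfsg.Agent.Lib.Helper8.AutDm.opp_ne_scalar _ _ q.ne q.h01 q.h00 c e'

/-- **opposite fundamental root subgroups do not commute modulo the centre** -/
theorem hncommM (hκ : 1 ≤ C.κ) {Q : Type*} [Group Q] (f : Mm C →* Q)
    (hker : f.ker ≤ Subgroup.center (Mm C)) (i : Fin (C.κ + 1)) :
    ∃ x ∈ XM C i, ∃ y ∈ YM C i, f (x * y) ≠ f (y * x) := by
  by_cases hi : (i : ℕ) < C.κ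
  · rw [XM_lt C i hi, YM_lt C i hi]
    refine ⟨sMm C i hi (upT 1), (mem_XC_iff C hi).2 ⟨1, rfl⟩, sMm C i hi (loT 1),
      (mem_YC_iff C hi).2 ⟨1, rfl⟩, ?_⟩
    intro h
    apply ncenter_chainM C hκ hi
    apply hker
    rw [MonoidHom.mem_ker, map_mul, map_inv, h, mul_inv_cancel]
  · rw [XM_tw C i hi, YM_tw C i hi]
    refine ⟨tMm C (upT 1), (mem_XT C).2 ⟨1, rfl⟩, tMm C (loT 1), (mem_YT C).2 ⟨1, rfl⟩, ?_⟩
    intro h
    apply ncenter_twist C hκ
    apply hker
    rw [MonoidHom.mem_ker, map_mul, map_inv, h, mul_inv_cancel]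

theorem UM_inf_ker (hκ : 1 ≤ C.κ) {Q : Type*} [Group Q] (f : Mm C →* Q)
    (hker : f.ker ≤ Subgroup.center (Mm C)) : UM C ⊓ f.ker = ⊥ := by
  rw [eq_bot_iff, ← UM_inf_center C hκ]
  exact inf_le_inf_left _ hker

/-- a homomorphism with central kernel is injective on `UM` -/
theorem f_inj_UM (hκ : 1 ≤ C.κ) {Q : Type*} [Group Q] (f : Mm C →* Q)
    (hker : f.ker ≤ Subgroup.center (Mm C)) {u u' : Mm C} (hu : u ∈ UM C)
    (hu' : u' ∈ UM C) (h : f u = f u') : u = u' := by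
  have h0 : u⁻¹ * u' ∈ f.ker := by
    rw [MonoidHom.mem_ker, map_mul, map_inv, h, inv_mul_cancel]
  have h1 : u⁻¹ * u' ∈ UM C ⊓ f.ker :=
    Subgroup.mem_inf.2 ⟨mul_mem (inv_mem hu) hu', h0⟩
  rw [UM_inf_ker C hκ f hker, Subgroup.mem_bot] at h1
  exact (inv_mul_eq_one.1 h1)


end Cfsg.Agent.Lib.Helper5.AutDM
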