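import Cfsg.Agent.Lib.Helper5.AutDM.Comm
import Cfsg.Agent.Lib.Helper8.AutDm.NormalFormA
import Mathlib

/-!
# `Ω⁻_{2κ+4}(F)`: commutation of the positive fundamental root subgroups of the model (helper5)

`XM_comm` : the positive fundamental root subgroups of non-adjacent nodes commute;
`XM_ncomm` : those of adjacent nodes do not; `commIm_iffM` : the images in a quotient by a central
subgroup commute exactly when the nodes are not adjacent (the diagram is a path).
-/

set_option autoImplicit false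

namespace Cfsg.Agent.Lib.Helper5.AutDM

open Matrix Cfsg Cfsg.Agent.Lib.Helper5.GLBN Cfsg.Agent.Lib.Helper8.SpBN
open Cfsg.Agent.Lib.Helper8.Tw Cfsg.Agent.PSUT Cfsg.Agent.Lib.Helper5.AutSU
open Cfsg.Agent.Lib.Helper5.AutDO Cfsg.Agent.AutPM
open Cfsg.Agent.Lib.Helper5.AutBN Cfsg.Agent.Lib.Helper8.AutSp
open Cfsg.Agent.AutPSU (upT loT dgT moT)
open scoped MatrixGroups

variable {N : ℕ} {F K : Type*} [Field F] [Field K] [Fintype K] (C : MC N F K)

/-- **the positive fundamental root subgroups of non-adjacent nodes commute** -/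
theorem XM_comm (i j : Fin (C.κ + 1)) (hij : i ≠ j) (h1 : (i : ℕ) + 1 ≠ j) (h2 : (j : ℕ) + 1 ≠ i)
    {x y : Mm C} (hx : x ∈ XM C i) (hy : y ∈ XM C j) : x * y = y * x := by
  have hN := C.hN
  have hi2 := i.2
  have hj2 := j.2
  have hij' : (i : ℕ) ≠ j := fun e => hij (Fin.ext e)
  rw [mem_XM_iff] at hx hy
  apply Subtype.ext
  show (x : SUm N K (RingHom.id K)) * y = y * x
  apply sh_comm hx hy
  · intro a b c hP hQ
    have ha := a.2
    have hb := b.2
    have hc := c.2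
    unfold PXM at hP hQ
    by_cases hi : (i : ℕ) < C.κ
    · rw [if_pos hi] at hP
      obtain ⟨hP1, hP2⟩ := hP
      rw [Fin.lt_def] at hP1
      unfold blk at hP2
      by_cases hj : (j : ℕ) < C.κ
      · rw [if_pos hj] at hQ
        obtain ⟨hQ1, hQ2⟩ := hQ
        rw [Fin.lt_def] at hQ1
        unfold blk at hQ2
        omega
      · rw [if_neg hj] at hQ
        have := PT_ia_val C hQ
        omega
    · rw [if_neg hi] at hP
      have h1 := PT_ia_val C hP
      have hj : (j : ℕ) < C.κ := by omega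
      rw [if_pos hj] at hQ
      obtain ⟨hQ1, hQ2⟩ := hQ
      rw [Fin.lt_def] at hQ1
      unfold blk at hQ2
      omega
  · intro a b c hQ hP
    have ha := a.2
    have hb := b.2
    have hc := c.2
    unfold PXM at hP hQ
    by_cases hi : (i : ℕ) < C.κ
    · rw [if_pos hi] at hP
      obtain ⟨hP1, hP2⟩ := hP
      rw [Fin.lt_def] at hP1
      unfold blk at hP2
      by_cases hj : (j : ℕ) < C.κ
      · rw [if_pos hj] at hQ
        obtain ⟨hQ1, hQ2⟩ := hQ
        rw [Fin.lt_def] at hQ1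
        unfold blk at hQ2
        omega
      · rw [if_neg hj] at hQ
        have := PT_ia_val C hQ
        omega
    · rw [if_neg hi] at hP
      have h1 := PT_ia_val C hP
      have hj : (j : ℕ) < C.κ := by omega
      rw [if_pos hj] at hQ
      obtain ⟨hQ1, hQ2⟩ := hQ
      rw [Fin.lt_def] at hQ1
      unfold blk at hQ2
      omega

/-- adjacent chain nodes: the positive root subgroups do not commute -/
theorem adj_ncomm_chainM {i : ℕ} (hi : i + 1 < C.κ) :
    ∃ x ∈ XC C i, ∃ y ∈ XC C (i + 1), x * y ≠ y * x := by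
  have hN := C.hN
  have hi' : i < C.κ := by omega
  refine ⟨sMm C i hi' (upT 1), (mem_XC_iff C hi').2 ⟨1, rfl⟩, sMm C (i + 1) hi (upT 1),
    (mem_XC_iff C hi).2 ⟨1, rfl⟩, ?_⟩
  intro e
  have e' := congrArg (fun g => ((gm C g : GL (Fin N) K) : Matrix (Fin N) (Fin N) K)) e
  rw [gm_mul, gm_mul, Units.val_mul, Units.val_mul, gm_sMm_upT, gm_sMm_upT, map_one,
    xS_coe_eq _ _ _ (C.quadC i hi').h11, xS_coe_eq _ _ _ (C.quadC (i + 1) hi).h11] at e'
  refine Cfsg.Agent.Lib.Helper8.AutDm.tri_ncomm (tri_of_lt ?_ ?_ ?_ ?_ ?_ ?_) e' <;>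
    simp only [MC.ia_val] <;> omega

/-- the twisted node and the node `κ - 1`: the positive root subgroups do not commute -/
theorem adj_ncomm_twist {i : ℕ} (hi : i + 1 = C.κ) :
    ∃ x ∈ XC C i, ∃ y ∈ XT C, x * y ≠ y * x := by
  have hN := C.hN
  have hi' : i < C.κ := by omega
  refine ⟨sMm C i hi' (upT 1), (mem_XC_iff C hi').2 ⟨1, rfl⟩, tMm C (upT 1),
    (mem_XT C).2 ⟨1, rfl⟩, ?_⟩
  intro e
  have e' := congrArg (fun g => ((gm C g : GL (Fin N) K) : Matrix (Fin N) (Fin N) K)) e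
  have hY : gm C (tMm C (upT 1)) = gl (C.tw (C.NM_ia C.κ le_rfl) 1) := by
    unfold gm
    rw [tMm_upT_coe]
  rw [gm_mul, gm_mul, Units.val_mul, Units.val_mul, gm_sMm_upT, hY, map_one] at e'
  have hb : C.ia (i + 1) hi' = C.ia C.κ le_rfl := Fin.ext hi
  have q := C.quadC i hi'
  rw [hb] at q
  have ha := C.NM_ia C.κ le_rfl
  have q1 := C.quad1 ha
  have q2 := C.quad2 ha
  have n1 : C.ia C.κ le_rfl ≠ C.D.p1 := q1.ne
  have n2 : C.ia C.κ le_rfl ≠ C.D.p1.rev := q2.ne
  have n3 : C.ia C.κ le_rfl ≠ (C.ia C.κ le_rfl).rev := q1.h00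
  have n4 : C.D.p1 ≠ (C.ia C.κ le_rfl).rev := fun h => n2 (by rw [h, Fin.rev_rev])
  have n6 := C.D.p1_ne
  have m1 : C.ia i (le_of_lt hi') ≠ C.D.p1 := (C.quad1 (C.NM_ia i (le_of_lt hi'))).ne
  have m2 : C.D.p1 ≠ (C.ia i (le_of_lt hi')).rev := fun h =>
    (C.quad2 (C.NM_ia i (le_of_lt hi'))).ne (by rw [h, Fin.rev_rev])
  have h1 := congrFun (congrFun e' (C.ia i (le_of_lt hi'))) C.D.p1
  rw [C.mul_tw_apply] at h1
  simp only [hb] at h1
  rw [mul_xS_apply _ _ _ _ _ q.h11] at h1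
  simp only [C.tw_apply] at h1
  rw [xS_coe_eq _ _ _ q.h11] at h1
  unfold eS at h1
  simp [n1, n1.symm, n2, n2.symm, n3, n3.symm, n4, n4.symm, n6, n6.symm, m1, m1.symm, m2, m2.symm,
    q.ne, q.ne.symm, q.h01, q.h00] at h1
  rw [Matrix.single_apply, if_neg (fun h => q.h01 h.1.symm), sub_zero] at h1
  exact one_ne_zero h1

/-- **the positive fundamental root subgroups of adjacent nodes do not commute** -/
theorem XM_ncomm (i j : Fin (C.κ + 1)) (h : (i : ℕ) + 1 = j) :
    ∃ x ∈ XM C i, ∃ y ∈ XM C j, x * y ≠ y * x := by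
  have hj2 := j.2
  have hi : (i : ℕ) < C.κ := by omega
  rw [XM_lt C i hi]
  by_cases hj : (j : ℕ) < C.κ
  · rw [XM_lt C j hj, ← h]
    exact adj_ncomm_chainM C (by omega)
  · rw [XM_tw C j hj]
    exact adj_ncomm_twist C (by omega)

theorem XM_le_UM (i : Fin (C.κ + 1)) : XM C i ≤ UM C := by
  by_cases hi : (i : ℕ) < C.κ
  · rw [XM_lt C i hi]
    exact XC_le_UM C i
  · rw [XM_tw C i hi]
    exact XT_le_UM C

theorem not_commImM (hκ : 1 ≤ C.κ) {Q : Type*} [Group Q] (f : Mm C →* Q)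
    (hker : f.ker ≤ Subgroup.center (Mm C)) {A B : Subgroup (Mm C)}
    (hA : A ≤ UM C) (hB : B ≤ UM C) (h : ∃ x ∈ A, ∃ y ∈ B, x * y ≠ y * x) :
    ¬ CommIm f A B := by
  intro hc
  obtain ⟨x, hx, y, hy, hne⟩ := h
  apply hne
  apply f_inj_UM C hκ f hker (mul_mem (hA hx) (hB hy)) (mul_mem (hB hy) (hA hx))
  rw [map_mul, map_mul]
  exact hc _ (Subgroup.mem_map_of_mem f hx) _ (Subgroup.mem_map_of_mem f hy)

/-- the images of the positive root subgroups of two distinct nodes commute exactly when the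
nodes are not adjacent in the path `0 — 1 — ⋯ — κ` -/
theorem commIm_iffM (hκ : 1 ≤ C.κ) {Q : Type*} [Group Q] (f : Mm C →* Q)
    (hker : f.ker ≤ Subgroup.center (Mm C)) (i j : Fin (C.κ + 1)) (hij : i ≠ j) :
    CommIm f (XM C i) (XM C j) ↔ ¬ ((i : ℕ) + 1 = j ∨ (j : ℕ) + 1 = i) := by
  constructor
  · intro hc hadj
    rcases hadj with h | h
    · exact not_commImM C hκ f hker (XM_le_UM C i) (XM_le_UM C j) (XM_ncomm C i j h) hc
    · exact not_commImM C hκ f hker (XM_le_UM C j) (XM_le_UM C i) (XM_ncomm C j i h)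
        (commIm_symm f hc)
  · intro hn
    apply commIm_of_comm
    intro x hx y hy
    exact XM_comm C i j hij (fun e => hn (Or.inl e)) (fun e => hn (Or.inr e)) hx hy

end Cfsg.Agent.Lib.Helper5.AutDM
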