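import Cfsg.Agent.Lib.Helper5.AutDM.BN4
import Mathlib

/-!
# `Ω⁻_{2κ+4}(F)`: the longest element of the Weyl group (helper5)

The Weyl group `WM` of the model (generated by the permutations `rhoM i`, type `B_{κ+1}`) contains
the reversal or the reversal times the swap of the two middle coordinates: the product of the
`κ + 1` sign changes `sgT d` (each composed with the swap), conjugates of `rhoT`.  Hence the model
contains a monomial element, a product of the `nM i`, with this permutation.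
-/

set_option autoImplicit false

namespace Cfsg.Agent.Lib.Helper5.AutDM

open Matrix Cfsg Cfsg.Agent.Lib.Helper5.GLBN Cfsg.Agent.Lib.Helper8.SpBN
open Cfsg.Agent.Lib.Helper8.Tw Cfsg.Agent.PSUT Cfsg.Agent.Lib.Helper5.AutSU
open Cfsg.Agent.Lib.Helper5.AutDO Cfsg.Agent.AutPM
open scoped MatrixGroups

variable {N : ℕ} {F K : Type*} [Field F] [Field K]

/-- the sign change at the coordinate `κ - d`, times the swap of the two middle coordinates -/
def sgT (C : MC N F K) : ℕ → Equiv.Perm (Fin N)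
  | 0 => rhoT C
  | d + 1 => rho N (C.κ - (d + 1)) * sgT C d * rho N (C.κ - (d + 1))

set_option maxHeartbeats 1000000 in
theorem sgT_val (C : MC N F K) (d : ℕ) (hd : d ≤ C.κ) (x : Fin N) :
    ((sgT C d x : Fin N) : ℕ) =
      if (x : ℕ) = C.κ - d then N - 1 - (C.κ - d) else if (x : ℕ) + (C.κ - d) + 1 = N then C.κ - d
      else if (x : ℕ) = C.κ + 1 then C.κ + 2 else if (x : ℕ) = C.κ + 2 then C.κ + 1 else x := by
  have hN := C.hN
  induction d generalizing x with
  | zero =>
    have hx := x.2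
    show ((rhoT C x : Fin N) : ℕ) = _
    rw [rhoT_val]
    split_ifs <;> omega
  | succ d ih =>
    have hx := x.2
    have hi : C.κ - (d + 1) + 1 < N / 2 := by omega
    have h1 := rho_val_short hi x
    have h2 := ih (by omega) (rho N (C.κ - (d + 1)) x)
    have h3 := rho_val_short hi (sgT C d (rho N (C.κ - (d + 1)) x))
    have hy := (rho N (C.κ - (d + 1)) x).2
    have hz := (sgT C d (rho N (C.κ - (d + 1)) x)).2
    show ((rho N (C.κ - (d + 1)) (sgT C d (rho N (C.κ - (d + 1)) x)) : Fin N) : ℕ) = _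
    generalize ((rho N (C.κ - (d + 1)) (sgT C d (rho N (C.κ - (d + 1)) x)) : Fin N) : ℕ) = w
      at h3 ⊢
    generalize ((sgT C d (rho N (C.κ - (d + 1)) x) : Fin N) : ℕ) = z at h2 h3 hz
    generalize ((rho N (C.κ - (d + 1)) x : Fin N) : ℕ) = y at h1 h2 hy
    split_ifs at h1 <;> split_ifs at h2 <;> split_ifs at h3 <;> split_ifs <;> omega

/-- the product of the first `m` sign changes -/
def prT (C : MC N F K) : ℕ → Equiv.Perm (Fin N)
  | 0 => 1
  | m + 1 => prT C m * sgT C (C.κ - m)

theorem prT_val (C : MC N F K) (m : ℕ) (hm : m ≤ C.κ + 1) (x : Fin N) :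
    ((prT C m x : Fin N) : ℕ) =
      if (x : ℕ) < m ∨ N ≤ (x : ℕ) + m then N - 1 - x
      else if m % 2 = 1 ∧ (x : ℕ) = C.κ + 1 then C.κ + 2
      else if m % 2 = 1 ∧ (x : ℕ) = C.κ + 2 then C.κ + 1 else x := by
  have hN := C.hN
  induction m generalizing x with
  | zero =>
    have hx := x.2
    show (((1 : Equiv.Perm (Fin N)) x : Fin N) : ℕ) = _
    rw [Equiv.Perm.one_apply]
    split_ifs with h1 h2 h3
    · omega
    · exact h2.1.elim
    · exact h3.1.elim
    · rfl
  | succ m ih =>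
    have hx := x.2
    have h1 := sgT_val C (C.κ - m) (by omega) x
    have h2 := ih (by omega) (sgT C (C.κ - m) x)
    have hy := (sgT C (C.κ - m) x).2
    show ((prT C m (sgT C (C.κ - m) x) : Fin N) : ℕ) = _
    generalize ((prT C m (sgT C (C.κ - m) x) : Fin N) : ℕ) = z at h2 ⊢
    generalize ((sgT C (C.κ - m) x : Fin N) : ℕ) = y at h1 h2 hy
    split_ifs at h1 <;> split_ifs at h2 <;> split_ifs <;> omega

theorem prT_top_odd (C : MC N F K) (h : (C.κ + 1) % 2 = 1) : prT C (C.κ + 1) = Fin.revPerm := by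
  have hN := C.hN
  apply Equiv.ext
  intro x
  apply Fin.ext
  have hx := x.2
  rw [prT_val C _ le_rfl, Fin.revPerm_apply, Fin.val_rev]
  split_ifs <;> omega

theorem prT_top_even (C : MC N F K) (h : (C.κ + 1) % 2 = 0) :
    prT C (C.κ + 1) = Fin.revPerm * C.D.tau := by
  have hN := C.hN
  have hκ : C.D.κ = C.κ := rfl
  apply Equiv.ext
  intro x
  apply Fin.ext
  have hx := x.2
  rw [prT_val C _ le_rfl, Equiv.Perm.mul_apply, Fin.revPerm_apply, Fin.val_rev, C.D.tau_val, hκ]
  split_ifs <;> omega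

section fin

variable [Fintype K]

/-- the Weyl group of the model -/
def WM (C : MC N F K) : Subgroup (Equiv.Perm (Fin N)) := Subgroup.closure (Set.range (rhoM C))

theorem rhoM_mem_WM (C : MC N F K) (i : Fin (C.κ + 1)) : rhoM C i ∈ WM C :=
  Subgroup.subset_closure ⟨i, rfl⟩

theorem rho_mem_WM (C : MC N F K) (j : ℕ) (hj : j < C.κ) : rho N j ∈ WM C := by
  have h := rhoM_mem_WM C ⟨j, by omega⟩
  rwa [rhoM_lt _ _ hj] at h

theorem rhoT_mem_WM (C : MC N F K) : rhoT C ∈ WM C := by
  have h := rhoM_mem_WM C ⟨C.κ, by omega⟩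
  rwa [rhoM_tw _ _ (by simp)] at h

theorem sgT_mem_WM (C : MC N F K) (d : ℕ) (hd : d ≤ C.κ) : sgT C d ∈ WM C := by
  induction d with
  | zero => exact rhoT_mem_WM C
  | succ d ih =>
    have h1 := rho_mem_WM C (C.κ - (d + 1)) (by omega)
    exact mul_mem (mul_mem h1 (ih (by omega))) h1

theorem prT_mem_WM (C : MC N F K) (m : ℕ) (hm : m ≤ C.κ + 1) : prT C m ∈ WM C := by
  induction m with
  | zero => exact one_mem _
  | succ m ih => exact mul_mem (ih (by omega)) (sgT_mem_WM C _ (by omega))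

/-- every element of the Weyl group of the model is induced by a product of the `nM i` -/
theorem exists_lift (C : MC N F K) {w : Equiv.Perm (Fin N)} (hw : w ∈ WM C) :
    ∃ n ∈ Subgroup.closure (Set.range (nM C)),
      IsMono ((gm C n : GL (Fin N) K) : Matrix (Fin N) (Fin N) K) w := by
  unfold WM at hw
  induction hw using Subgroup.closure_induction with
  | mem x hx =>
    obtain ⟨i, rfl⟩ := hx
    exact ⟨nM C i, Subgroup.subset_closure ⟨i, rfl⟩, isMono_nM C i⟩
  | one =>
    refine ⟨1, one_mem _, ?_⟩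
    have e : gm C (1 : Mm C) = 1 := gl_one
    rw [e]
    exact isMono_one
  | mul x y _ _ hx hy =>
    obtain ⟨n1, hn1, h1⟩ := hx
    obtain ⟨n2, hn2, h2⟩ := hy
    refine ⟨n1 * n2, mul_mem hn1 hn2, ?_⟩
    rw [gm_mul, Units.val_mul]
    exact h1.mul h2
  | inv x _ hx =>
    obtain ⟨n1, hn1, h1⟩ := hx
    refine ⟨n1⁻¹, inv_mem hn1, ?_⟩
    rw [gm_inv]
    exact h1.inv

/-- the model contains a monomial element whose permutation is the reversal, or the reversal
times the swap of the two middle coordinates -/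
theorem exists_longest (C : MC N F K) :
    ∃ (n0 : Mm C) (π0 : Equiv.Perm (Fin N)),
      n0 ∈ Subgroup.closure (Set.range (nM C)) ∧
      IsMono ((gm C n0 : GL (Fin N) K) : Matrix (Fin N) (Fin N) K) π0 ∧
      (π0 = Fin.revPerm ∨ π0 = Fin.revPerm * C.D.tau) := by
  have h := prT_mem_WM C (C.κ + 1) le_rfl
  obtain ⟨n, hn, hm⟩ := exists_lift C h
  rcases Nat.mod_two_eq_zero_or_one (C.κ + 1) with h2 | h2
  · exact ⟨n, _, hn, hm, Or.inr (prT_top_even C h2)⟩
  · exact ⟨n, _, hn, hm, Or.inl (prT_top_odd C h2)⟩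

end fin

end Cfsg.Agent.Lib.Helper5.AutDM
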