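import Cfsg.Agent.Lib.Helper5.AutDM.Opp1
import Mathlib

/-!
# `Ω⁻_{2κ+4}(F)`: opposition (helper5)

Conjugation by a monomial element of the model whose permutation is "opposite" (the reversal, or
the reversal times the swap of the two middle coordinates) exchanges `UM` and `VM`, and carries
every negative fundamental root subgroup `YM i` onto the positive one `XM i` (`exists_n0M`).
-/

set_option autoImplicit false

namespace Cfsg.Agent.Lib.Helper5.AutDM

open Matrix Cfsg Cfsg.Agent.Lib.Helper5.GLBN Cfsg.Agent.Lib.Helper8.SpBN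
open Cfsg.Agent.Lib.Helper8.Tw Cfsg.Agent.PSUT Cfsg.Agent.Lib.Helper5.AutSU
open Cfsg.Agent.Lib.Helper5.AutDO Cfsg.Agent.AutPM
open Cfsg.Agent.Lib.Helper5.AutBN
open Cfsg.Agent.AutPSU (upT loT dgT moT Quad)
open scoped MatrixGroups

variable {N : ℕ} {F K : Type*} [Field F] [Field K] [Fintype K]

/-- conjugation by an opposite monomial element carries the upper unitriangular elements of the
orthogonal group to lower unitriangular ones -/
theorem conj_UU_mem_VV_of_isQ (D : DC N) {n u : SUm N K (RingHom.id K)} {π : Equiv.Perm (Fin N)}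
    (hn : IsMono ((gl n : GL (Fin N) K) : Matrix (Fin N) (Fin N) K) π) (hπ : D.IsOpp π)
    (hQ : u ∈ OD N K) (hu : u ∈ UU N K (RingHom.id K)) :
    n⁻¹ * u * n ∈ VV N K (RingHom.id K) := by
  obtain ⟨hlow, hdiag⟩ := mem_UU.1 hu
  have hmid : ((gl u : GL (Fin N) K) : Matrix (Fin N) (Fin N) K) D.p1 D.p1.rev = 0 := by
    have h := (mem_OD.1 hQ).upper_mid hlow D.p1 (by rw [D.p1_val, D.p1_rev_val])
    rw [hdiag, mul_one] at h
    exact h
  rw [mem_VV]
  constructor
  · intro i j hij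
    rw [gl_mul, gl_mul, gl_inv, mono_conj_apply hn]
    have h0 : ((gl u : GL (Fin N) K) : Matrix (Fin N) (Fin N) K) (π i) (π j) = 0 := by
      rcases lt_trichotomy (π i) (π j) with h | h | h
      · obtain ⟨e1, e2⟩ := hπ i j hij h
        rw [e1, e2]
        exact hmid
      · exact absurd (π.injective h) (ne_of_lt hij)
      · exact hlow _ _ h
    rw [h0, mul_zero, zero_mul]
  · intro i
    rw [gl_mul, gl_mul, gl_inv, mono_conj_apply hn, hdiag, mul_one, IsMono_inv_apply hn]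

/-- conjugation by an opposite monomial element carries the lower unitriangular elements of the
orthogonal group to upper unitriangular ones -/
theorem conj_VV_mem_UU_of_isQ (D : DC N) {n v : SUm N K (RingHom.id K)} {π : Equiv.Perm (Fin N)}
    (hn : IsMono ((gl n : GL (Fin N) K) : Matrix (Fin N) (Fin N) K) π) (hπ : D.IsOpp π)
    (hQ : v ∈ OD N K) (hv : v ∈ VV N K (RingHom.id K)) :
    n⁻¹ * v * n ∈ UU N K (RingHom.id K) := by
  obtain ⟨hup, hdiag⟩ := mem_VV.1 hv
  have hmid : ((gl v : GL (Fin N) K) : Matrix (Fin N) (Fin N) K) D.p1.rev D.p1 = 0 := by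
    have h := (mem_OD.1 hQ).lower_mid hup D.p1 (by rw [D.p1_val, D.p1_rev_val])
    rw [hdiag, one_mul] at h
    exact h
  rw [mem_UU]
  constructor
  · intro i j hji
    rw [gl_mul, gl_mul, gl_inv, mono_conj_apply hn]
    have h0 : ((gl v : GL (Fin N) K) : Matrix (Fin N) (Fin N) K) (π i) (π j) = 0 := by
      rcases lt_trichotomy (π i) (π j) with h | h | h
      · exact hup _ _ h
      · exact absurd (π.injective h) (ne_of_gt hji)
      · obtain ⟨e1, e2⟩ := hπ j i hji h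
        rw [e1, e2]
        exact hmid
    rw [h0, mul_zero, zero_mul]
  · intro i
    rw [gl_mul, gl_mul, gl_inv, mono_conj_apply hn, hdiag, mul_one, IsMono_inv_apply hn]

variable (C : MC N F K)

theorem isMono_inv_of_sqM {n : Mm C} {π : Equiv.Perm (Fin N)}
    (hn : IsMono ((gm C n : GL (Fin N) K) : Matrix (Fin N) (Fin N) K) π) (hπ2 : π * π = 1) :
    IsMono ((gm C n⁻¹ : GL (Fin N) K) : Matrix (Fin N) (Fin N) K) π := by
  have hinv : π⁻¹ = π := inv_eq_of_mul_eq_one_right hπ2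
  rw [gm_inv]
  have := hn.inv
  rwa [hinv] at this

theorem conj_inv_coeM (n x : Mm C) :
    ((n⁻¹ : Mm C) : SUm N K (RingHom.id K))⁻¹ * ((n⁻¹ * x * n : Mm C) : SUm N K (RingHom.id K))
      * ((n⁻¹ : Mm C) : SUm N K (RingHom.id K)) = (x : SUm N K (RingHom.id K)) := by
  push_cast
  group

/-- conjugation by an opposite monomial element exchanges `UM` and `VM` -/
theorem cj_UM_of_isOpp {n : Mm C} {π : Equiv.Perm (Fin N)}
    (hn : IsMono ((gm C n : GL (Fin N) K) : Matrix (Fin N) (Fin N) K) π) (hπ : C.D.IsOpp π)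
    (hπ2 : π * π = 1) : cj n (UM C) = VM C := by
  have hn' := isMono_inv_of_sqM C hn hπ2
  ext x
  rw [mem_cj, mem_UM, mem_VM]
  constructor
  · intro h
    have h1 := conj_UU_mem_VV_of_isQ C.D hn' hπ (C.G0_le_OD (n⁻¹ * x * n).2) h
    rwa [conj_inv_coeM] at h1
  · intro h
    exact conj_VV_mem_UU_of_isQ C.D hn hπ (C.G0_le_OD x.2) h

theorem cj_VM_of_isOpp {n : Mm C} {π : Equiv.Perm (Fin N)}
    (hn : IsMono ((gm C n : GL (Fin N) K) : Matrix (Fin N) (Fin N) K) π) (hπ : C.D.IsOpp π)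
    (hπ2 : π * π = 1) : cj n (VM C) = UM C := by
  have hn' := isMono_inv_of_sqM C hn hπ2
  ext x
  rw [mem_cj, mem_UM, mem_VM]
  constructor
  · intro h
    have h1 := conj_VV_mem_UU_of_isQ C.D hn' hπ (C.G0_le_OD (n⁻¹ * x * n).2) h
    rwa [conj_inv_coeM] at h1
  · intro h
    exact conj_UU_mem_VV_of_isQ C.D hn hπ (C.G0_le_OD x.2) h

/-- conjugation of subgroups of the model given by shapes -/
theorem cj_eq_of_shM {n : Mm C} {π : Equiv.Perm (Fin N)}
    (hn : IsMono ((gm C n : GL (Fin N) K) : Matrix (Fin N) (Fin N) K) π) (hπ2 : π * π = 1)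
    {H H' : Subgroup (Mm C)} {P P' : Fin N → Fin N → Prop}
    (hH : ∀ g : Mm C, g ∈ H ↔ (g : SUm N K (RingHom.id K)) ∈ Sh N K (RingHom.id K) P)
    (hH' : ∀ g : Mm C, g ∈ H' ↔ (g : SUm N K (RingHom.id K)) ∈ Sh N K (RingHom.id K) P')
    (hP : ∀ a b, a ≠ b → (P (π a) (π b) ↔ P' a b)) : cj n H = H' := by
  have hn' := isMono_inv_of_sqM C hn hπ2
  have hππ : ∀ x, π (π x) = x := fun x => by
    rw [← Equiv.Perm.mul_apply, hπ2, Equiv.Perm.one_apply]
  ext x
  rw [mem_cj, hH, hH']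
  constructor
  · intro h
    have h1 := sh_conj hn' h
    rw [conj_inv_coeM] at h1
    exact sh_congr (fun a b hab hp => (hP a b hab).1 hp) h1
  · intro h
    have h1 := sh_conj hn h
    refine sh_congr ?_ h1
    intro a b hab hp
    have := (hP (π a) (π b) (fun e => hab (π.injective e))).2 hp
    rwa [hππ, hππ] at this

/-- the shape of a short root of the twisted group under a permutation -/
theorem PT_perm_iff (ρ : Equiv.Perm (Fin N)) (hρ : ρ * ρ = 1)
    (hr : ∀ x, ρ x.rev = (ρ x).rev)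
    (h1 : (ρ C.D.p1 = C.D.p1 ∧ ρ C.D.p1.rev = C.D.p1.rev) ∨
      (ρ C.D.p1 = C.D.p1.rev ∧ ρ C.D.p1.rev = C.D.p1))
    (a i k : Fin N) : C.PT (ρ a) (ρ i) (ρ k) ↔ C.PT a i k := by
  have hρ' : ∀ x, ρ (ρ x) = x := fun x => by
    rw [← Equiv.Perm.mul_apply, hρ, Equiv.Perm.one_apply]
  constructor
  · intro h
    have := PT_comp C ρ hρ hr h1 a (ρ i) (ρ k) h
    rwa [hρ', hρ'] at this
  · intro h
    have h' : C.PT (ρ (ρ a)) i k := by rwa [hρ']
    exact PT_comp C ρ hρ hr h1 (ρ a) i k h'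

/-! ### the negative fundamental root subgroups -/

/-- the negative root subgroup of a chain node -/
noncomputable def YC (j : ℕ) : Subgroup (Mm C) := (Xm N K (RingHom.id K) j).subgroupOf C.G0

theorem mem_YC {j : ℕ} {g : Mm C} :
    g ∈ YC C j ↔ (g : SUm N K (RingHom.id K)) ∈ Xm N K (RingHom.id K) j := Iff.rfl

/-- the negative root subgroup of the twisted node -/
noncomputable def YT : Subgroup (Mm C) where
  carrier := {g | ∃ s : K, g = tMm C (loT s)}
  mul_mem' := by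
    rintro a b ⟨s, rfl⟩ ⟨u, rfl⟩
    exact ⟨s + u, by rw [Cfsg.Agent.AutPSU.loT_add, map_mul]⟩
  one_mem' := ⟨0, by rw [Cfsg.Agent.AutPSU.loT_zero, map_one]⟩
  inv_mem' := by
    rintro a ⟨s, rfl⟩
    exact ⟨-s, by rw [← Cfsg.Agent.AutPSU.loT_inv, map_inv]⟩

theorem mem_YT {g : Mm C} : g ∈ YT C ↔ ∃ s : K, g = tMm C (loT s) := Iff.rfl

/-- the negative fundamental root subgroups -/
noncomputable def YM (i : Fin (C.κ + 1)) : Subgroup (Mm C) :=
  if (i : ℕ) < C.κ then YC C i else YT C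

theorem YM_lt (i : Fin (C.κ + 1)) (h : (i : ℕ) < C.κ) : YM C i = YC C i := if_pos h

theorem YM_tw (i : Fin (C.κ + 1)) (h : ¬ (i : ℕ) < C.κ) : YM C i = YT C := if_neg h

theorem YT_eq : YT C = cj (nTm C) (XT C) := by
  ext g
  rw [mem_cj, mem_YT, mem_XT]
  constructor
  · rintro ⟨s, rfl⟩
    refine ⟨-s, ?_⟩
    rw [tMm_loT]
    group
  · rintro ⟨s, hs⟩
    refine ⟨-s, ?_⟩
    rw [tMm_loT, neg_neg, ← hs]
    group

/-- the shape of the positive root subgroup of the twisted node -/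
theorem mem_XT_sh {g : Mm C} : g ∈ XT C ↔
    (g : SUm N K (RingHom.id K)) ∈ Sh N K (RingHom.id K) (C.PT (C.ia C.κ le_rfl)) := by
  constructor
  · rintro ⟨s, rfl⟩
    rw [tMm_upT_coe]
    exact C.tw_mem_Sh _ s
  · intro hg
    have h := C.sh_PT_eq (C.NM_ia C.κ le_rfl) hg (C.G0_le_SM g.2)
    exact ⟨_, Subtype.ext (by rw [tMm_upT_coe]; exact h)⟩

theorem rhoT_PT_iff (a i k : Fin N) : C.PT (rhoT C a) (rhoT C i) (rhoT C k) ↔ C.PT a i k := by
  apply PT_perm_iff C (rhoT C) (rhoT_mul_self C) (rhoT_rev C)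
  right
  refine ⟨rhoT_p1 C, ?_⟩
  rw [rhoT_rev, rhoT_p1, Fin.rev_rev]

/-- the shape of the negative root subgroup of the twisted node -/
theorem mem_YT_sh {g : Mm C} : g ∈ YT C ↔
    (g : SUm N K (RingHom.id K)) ∈ Sh N K (RingHom.id K) (C.PT (C.ia C.κ le_rfl).rev) := by
  have hn := isMono_nTm C
  have hn' := isMono_inv_of_sqM C hn (rhoT_mul_self C)
  rw [YT_eq, mem_cj, mem_XT_sh]
  constructor
  · intro h
    have h1 := sh_conj hn' h
    rw [conj_inv_coeM] at h1
    refine sh_mono ?_ h1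
    intro a b hp
    have := (rhoT_PT_iff C (C.ia C.κ le_rfl).rev a b).1 (by
      rw [rhoT_rev, rhoT_ia, Fin.rev_rev]
      exact hp)
    exact this
  · intro h
    have h1 := sh_conj hn h
    refine sh_mono ?_ h1
    intro a b hp
    exact (rhoT_PT_iff C (C.ia C.κ le_rfl) a b).1 (by
      rw [rhoT_ia]
      exact hp)

/-- the shapes of the positive fundamental root subgroups -/
def PXM (i : Fin (C.κ + 1)) : Fin N → Fin N → Prop :=
  if (i : ℕ) < C.κ then fun a b => a < b ∧ blk N i a b else C.PT (C.ia C.κ le_rfl)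

/-- the shapes of the negative fundamental root subgroups -/
def PYM (i : Fin (C.κ + 1)) : Fin N → Fin N → Prop :=
  if (i : ℕ) < C.κ then fun a b => b < a ∧ blk N i a b else C.PT (C.ia C.κ le_rfl).rev

theorem mem_XM_iff (i : Fin (C.κ + 1)) {g : Mm C} :
    g ∈ XM C i ↔ (g : SUm N K (RingHom.id K)) ∈ Sh N K (RingHom.id K) (PXM C i) := by
  have hN := C.hN
  have hi := i.2
  by_cases h : (i : ℕ) < C.κ
  · rw [XM_lt _ _ h, mem_XC, ← SetLike.mem_coe, Xp_eq_Sh (by omega)]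
    unfold PXM
    rw [if_pos h]
  · rw [XM_tw _ _ h, mem_XT_sh]
    unfold PXM
    rw [if_neg h]

theorem mem_YM_iff (i : Fin (C.κ + 1)) {g : Mm C} :
    g ∈ YM C i ↔ (g : SUm N K (RingHom.id K)) ∈ Sh N K (RingHom.id K) (PYM C i) := by
  have hN := C.hN
  have hi := i.2
  by_cases h : (i : ℕ) < C.κ
  · rw [YM_lt _ _ h, mem_YC, ← SetLike.mem_coe, Xm_eq_Sh (by omega)]
    unfold PYM
    rw [if_pos h]
  · rw [YM_tw _ _ h, mem_YT_sh]
    unfold PYM
    rw [if_neg h]

/-- the reversal carries the negative fundamental root subgroups to the positive ones -/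
theorem cj_YM_rev {n : Mm C}
    (hn : IsMono ((gm C n : GL (Fin N) K) : Matrix (Fin N) (Fin N) K) Fin.revPerm)
    (i : Fin (C.κ + 1)) : cj n (YM C i) = XM C i := by
  apply cj_eq_of_shM C hn revPerm_mul_self' (fun _ => mem_YM_iff C i) (fun _ => mem_XM_iff C i)
  intro a b hab
  rw [Fin.revPerm_apply, Fin.revPerm_apply]
  unfold PYM PXM
  by_cases h : (i : ℕ) < C.κ
  · rw [if_pos h, if_pos h]
    show (b.rev < a.rev ∧ _) ↔ _
    rw [Fin.rev_lt_rev, DC.blk_rev C.D.even]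
  · rw [if_neg h, if_neg h]
    have h1 := PT_perm_iff C Fin.revPerm revPerm_mul_self' (fun x => rfl)
      (Or.inr ⟨rfl, Fin.rev_rev _⟩) (C.ia C.κ le_rfl) a b
    rw [Fin.revPerm_apply, Fin.revPerm_apply, Fin.revPerm_apply] at h1
    exact h1

/-- the reversal times the swap carries the negative fundamental root subgroups to the positive
ones -/
theorem cj_YM_rev_tau {n : Mm C}
    (hn : IsMono ((gm C n : GL (Fin N) K) : Matrix (Fin N) (Fin N) K) (Fin.revPerm * C.D.tau))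
    (i : Fin (C.κ + 1)) : cj n (YM C i) = XM C i := by
  apply cj_eq_of_shM C hn C.D.rev_tau_mul_self (fun _ => mem_YM_iff C i)
    (fun _ => mem_XM_iff C i)
  intro a b hab
  rw [Equiv.Perm.mul_apply, Equiv.Perm.mul_apply, Fin.revPerm_apply, Fin.revPerm_apply]
  unfold PYM PXM
  by_cases h : (i : ℕ) < C.κ
  · rw [if_pos h, if_pos h]
    show ((C.D.tau b).rev < (C.D.tau a).rev ∧ _) ↔ _
    rw [Fin.rev_lt_rev, DC.blk_rev C.D.even]
    exact C.D.blk_tau h a b hab
  · rw [if_neg h, if_neg h]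
    have hr : ∀ x : Fin N, ((Fin.revPerm : Equiv.Perm (Fin N)) * C.D.tau) x.rev
        = (((Fin.revPerm : Equiv.Perm (Fin N)) * C.D.tau) x).rev := by
      intro x
      rw [Equiv.Perm.mul_apply, Equiv.Perm.mul_apply, Fin.revPerm_apply, Fin.revPerm_apply,
        C.D.tau_rev]
    have h1 := PT_perm_iff C (Fin.revPerm * C.D.tau) C.D.rev_tau_mul_self hr
      (Or.inl ⟨by rw [Equiv.Perm.mul_apply, Fin.revPerm_apply, C.tau_p1, Fin.rev_rev],
        by rw [Equiv.Perm.mul_apply, Fin.revPerm_apply, C.tau_p1_rev]⟩) (C.ia C.κ le_rfl) a b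
    have e : C.D.tau (C.ia C.κ le_rfl) = C.ia C.κ le_rfl := C.NM_ia C.κ le_rfl
    rw [Equiv.Perm.mul_apply, Equiv.Perm.mul_apply, Equiv.Perm.mul_apply, Fin.revPerm_apply,
      Fin.revPerm_apply, Fin.revPerm_apply, e] at h1
    exact h1

/-- **the longest element**: a monomial element of the model, product of the `nM i`, which
exchanges `UM` and `VM` and carries the negative fundamental root subgroups onto the positive
ones -/
theorem exists_n0M :
    ∃ n0 : Mm C, n0 ∈ Subgroup.closure (Set.range (nM C)) ∧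
      (∃ π0 : Equiv.Perm (Fin N),
        IsMono ((gm C n0 : GL (Fin N) K) : Matrix (Fin N) (Fin N) K) π0 ∧ C.D.IsOpp π0 ∧
          π0 * π0 = 1 ∧ (π0 = Fin.revPerm ∨ π0 = Fin.revPerm * C.D.tau)) ∧
      cj n0 (UM C) = VM C ∧ cj n0 (VM C) = UM C ∧
      (∀ i, cj n0 (YM C i) = XM C i) := by
  obtain ⟨n0, π0, hmem, hn, hπ⟩ := exists_longest C
  rcases hπ with rfl | rfl
  · exact ⟨n0, hmem, ⟨_, hn, C.D.isOpp_rev, revPerm_mul_self', Or.inl rfl⟩,
      cj_UM_of_isOpp C hn C.D.isOpp_rev revPerm_mul_self',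
      cj_VM_of_isOpp C hn C.D.isOpp_rev revPerm_mul_self', fun i => cj_YM_rev C hn i⟩
  · exact ⟨n0, hmem, ⟨_, hn, C.D.isOpp_rev_tau, C.D.rev_tau_mul_self, Or.inr rfl⟩,
      cj_UM_of_isOpp C hn C.D.isOpp_rev_tau C.D.rev_tau_mul_self,
      cj_VM_of_isOpp C hn C.D.isOpp_rev_tau C.D.rev_tau_mul_self,
      fun i => cj_YM_rev_tau C hn i⟩

end Cfsg.Agent.Lib.Helper5.AutDM
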