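import Cfsg.Agent.Lib.Lead.AutPM.Roots
import Mathlib

/-!
# `Ω⁻_{2κ+4}(F)`: the monomial elements of the nodes and the propagation of the root elements
(helper5)

The model `G0` of lead's `MC N F K` (inside `SUm N K id`, `K` the quadratic extension).  The
monomial elements `nS j` (`j < κ`) of the chain nodes and `nT = tM (moT 1)` of the twisted node
(permutation `rhoT`: `κ ↔ κ.rev`, `p1 ↔ p1.rev`) lie in `G0`; every subgroup `H` which contains
them and the fundamental positive root elements (`GoodM`) contains all the positive root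
elements: the long ones `Sh (PS a b) ∩ SM` (`a < b`, `a < b.rev`, both not in the middle) and the
short ones `Sh (PT a) ∩ SM` (`a ≤ κ`).
-/

set_option autoImplicit false

namespace Cfsg.Agent.Lib.Helper5.AutDM

open Matrix Cfsg Cfsg.Agent.Lib.Helper5.GLBN Cfsg.Agent.Lib.Helper8.SpBN
open Cfsg.Agent.Lib.Helper8.Tw Cfsg.Agent.PSUT Cfsg.Agent.Lib.Helper5.AutSU
open Cfsg.Agent.Lib.Helper5.AutDO Cfsg.Agent.AutPM
open Cfsg.Agent.AutPSU (upT loT dgT moT Quad)
open Cfsg.Agent.AutPO (sO fO tO)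
open scoped MatrixGroups

variable {N : ℕ} {F K : Type*} [Field F] [Field K]

/-- the permutation of the reflection of the twisted node -/
def rhoT (C : MC N F K) : Equiv.Perm (Fin N) := rho N C.κ * C.D.rhoF

theorem rhoT_val (C : MC N F K) (x : Fin N) : ((rhoT C x : Fin N) : ℕ) =
    if (x : ℕ) = C.κ then C.κ + 3 else if (x : ℕ) = C.κ + 3 then C.κ
    else if (x : ℕ) = C.κ + 1 then C.κ + 2 else if (x : ℕ) = C.κ + 2 then C.κ + 1 else x := by
  have hN := C.hN
  have hx := x.2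
  have hκ : C.D.κ = C.κ := rfl
  unfold rhoT
  rw [Equiv.Perm.mul_apply, rho_val_short (by omega), DC.rhoF_val, hκ]
  split_ifs <;> omega

theorem rhoT_mul_self (C : MC N F K) : rhoT C * rhoT C = 1 := by
  have hN := C.hN
  apply Equiv.ext
  intro x
  apply Fin.ext
  have hx := x.2
  rw [Equiv.Perm.mul_apply, rhoT_val, rhoT_val, Equiv.Perm.one_apply]
  split_ifs <;> omega

theorem rhoT_rev (C : MC N F K) (x : Fin N) : rhoT C x.rev = (rhoT C x).rev := by
  have hN := C.hN
  apply Fin.ext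
  have hx := x.2
  rw [Fin.val_rev, rhoT_val, rhoT_val, Fin.val_rev]
  split_ifs <;> omega

theorem rhoT_fix (C : MC N F K) (x : Fin N) (h1 : (x : ℕ) < C.κ) : rhoT C x = x := by
  apply Fin.ext
  rw [rhoT_val]
  split_ifs <;> omega

theorem rhoT_p1 (C : MC N F K) : rhoT C C.D.p1 = C.D.p1.rev := by
  apply Fin.ext
  rw [rhoT_val, C.D.p1_rev_val, C.D.p1_val]
  have hκ : C.D.κ = C.κ := rfl
  rw [hκ]
  split_ifs <;> omega

theorem rhoT_ia (C : MC N F K) : rhoT C (C.ia C.κ le_rfl) = (C.ia C.κ le_rfl).rev := by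
  have hN := C.hN
  apply Fin.ext
  rw [rhoT_val, MC.ia_rev_val, MC.ia_val]
  split_ifs <;> omega

section fin

variable [Fintype K]

/-- the monomial element of a chain node -/
theorem sM_moT (C : MC N F K) (j : ℕ) (hj : j < C.κ) :
    C.sM j hj (moT 1 one_ne_zero) = nS j (C.hj_of_lt hj) := by
  rw [moT_one_eq, map_mul, map_mul, MC.sM_apply, MC.sM_apply, Cfsg.Agent.AutPO.map_upT,
    Cfsg.Agent.AutPO.map_loT, map_one, map_neg, map_one]
  unfold nS
  rw [xpS_eq_sO, xmS_eq_sO]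

theorem nS_mem_G0 (C : MC N F K) (j : ℕ) (hj : j < C.κ) :
    (nS j (C.hj_of_lt hj) : SUm N K (RingHom.id K)) ∈ C.G0 := by
  rw [← sM_moT C j hj]
  exact C.sM_mem_G0 j hj _

/-- the monomial element of the twisted node -/
noncomputable def nT (C : MC N F K) : SUm N K (RingHom.id K) := C.tM (moT 1 one_ne_zero)

theorem nT_mem_G0 (C : MC N F K) : nT C ∈ C.G0 := C.tM_mem_G0 _

theorem cjS_moT (C : MC N F K) : C.cjS (moT 1 one_ne_zero) = moT 1 one_ne_zero := by
  rw [moT_one_eq]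
  unfold MC.cjS
  rw [map_mul, map_mul, Cfsg.Agent.AutPO.map_upT, Cfsg.Agent.AutPO.map_loT]
  simp

theorem nT_eq (C : MC N F K) : nT C = nS C.κ C.hκN * C.D.nF := by
  unfold nT
  rw [MC.tM_apply, cjS_moT, ← Cfsg.Agent.AutPO.conj_rfl_sO, ← nS_eq_sO]
  rfl

theorem isMono_nT (C : MC N F K) :
    IsMono ((gl (nT C) : GL (Fin N) K) : Matrix (Fin N) (Fin N) K) (rhoT C) := by
  rw [nT_eq, gl_mul, Units.val_mul]
  exact (isMono_nS C.κ C.hκN).mul C.D.isMono_nF

/-- the step of the propagation: a shape which a monomial element of `H` carries into a shape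
whose elements in `SM` lie in `H` -/
theorem good_stepM (C : MC N F K) (H : Subgroup (SUm N K (RingHom.id K)))
    {n : SUm N K (RingHom.id K)} (hnH : n ∈ H) (hnS : n ∈ C.SM) {π : Equiv.Perm (Fin N)}
    (hn : IsMono ((gl n : GL (Fin N) K) : Matrix (Fin N) (Fin N) K) π)
    {P P' : Fin N → Fin N → Prop}
    (hP : ∀ g ∈ Sh N K (RingHom.id K) P, g ∈ C.SM → g ∈ H)
    (hPP : ∀ i k, P' i k → P (π i) (π k)) :
    ∀ g ∈ Sh N K (RingHom.id K) P', g ∈ C.SM → g ∈ H := by
  intro g hg hgS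
  have h1 : IsMono ((gl n⁻¹ : GL (Fin N) K) : Matrix (Fin N) (Fin N) K) π⁻¹ := by
    rw [gl_inv]
    exact hn.inv
  have h2 := sh_conj h1 hg
  have h3 : (n⁻¹)⁻¹ * g * n⁻¹ ∈ H := by
    apply hP
    · refine sh_mono ?_ h2
      intro a b h
      have := hPP _ _ h
      simpa using this
    · exact mul_mem (mul_mem (inv_mem (inv_mem hnS)) hgS) (inv_mem hnS)
  have e : g = n⁻¹ * ((n⁻¹)⁻¹ * g * n⁻¹) * n := by group
  rw [e]
  exact mul_mem (mul_mem (inv_mem hnH) h3) hnH

/-- the shape of a short root of the twisted group under a reflection fixing the middle -/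
theorem PT_comp (C : MC N F K) (ρ : Equiv.Perm (Fin N)) (hρ : ρ * ρ = 1)
    (hr : ∀ x, ρ x.rev = (ρ x).rev)
    (h1 : (ρ C.D.p1 = C.D.p1 ∧ ρ C.D.p1.rev = C.D.p1.rev) ∨
      (ρ C.D.p1 = C.D.p1.rev ∧ ρ C.D.p1.rev = C.D.p1))
    (a i k : Fin N) (h : C.PT (ρ a) i k) : C.PT a (ρ i) (ρ k) := by
  have hρ' : ∀ x, ρ (ρ x) = x := fun x => by
    rw [← Equiv.Perm.mul_apply, hρ, Equiv.Perm.one_apply]
  unfold MC.PT at *
  rcases h with ⟨rfl, h2 | h2 | h2⟩ | ⟨rfl, h2 | h2⟩
  · left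
    refine ⟨hρ' a, ?_⟩
    rw [h2]
    rcases h1 with h1 | h1
    · exact Or.inl h1.1
    · exact Or.inr (Or.inl h1.1)
  · left
    refine ⟨hρ' a, ?_⟩
    rw [h2]
    rcases h1 with h1 | h1
    · exact Or.inr (Or.inl h1.2)
    · exact Or.inl h1.2
  · left
    refine ⟨hρ' a, ?_⟩
    rw [h2, hr, hρ']
    exact Or.inr (Or.inr rfl)
  · right
    rw [hr, hρ']
    refine ⟨rfl, ?_⟩
    rw [h2]
    rcases h1 with h1 | h1
    · exact Or.inl h1.1
    · exact Or.inr h1.1
  · right
    rw [hr, hρ']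
    refine ⟨rfl, ?_⟩
    rw [h2]
    rcases h1 with h1 | h1
    · exact Or.inr h1.2
    · exact Or.inl h1.2

/-- a subgroup containing the fundamental positive root elements and, for every node, a
monomial element of `SM` inducing the reflection of the node -/
structure GoodM (C : MC N F K) (H : Subgroup (SUm N K (RingHom.id K))) : Prop where
  hn : ∀ j, j < C.κ → ∃ n ∈ H, n ∈ C.SM ∧
    IsMono ((gl n : GL (Fin N) K) : Matrix (Fin N) (Fin N) K) (rho N j)
  hnT : ∃ n ∈ H, n ∈ C.SM ∧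
    IsMono ((gl n : GL (Fin N) K) : Matrix (Fin N) (Fin N) K) (rhoT C)
  hX : ∀ j (hj : j < C.κ), ∀ g ∈ Sh N K (RingHom.id K)
    (PS (C.ia j (le_of_lt hj)) (C.ia (j + 1) hj)), g ∈ C.SM → g ∈ H
  hXT : ∀ g ∈ Sh N K (RingHom.id K) (C.PT (C.ia C.κ le_rfl)), g ∈ C.SM → g ∈ H

variable {C : MC N F K} {H : Subgroup (SUm N K (RingHom.id K))}

/-- the long roots `e_a - e_b`, `a < b ≤ κ` -/
theorem GoodM.PS_I (h : GoodM C H) : ∀ d a b : ℕ, ∀ (ha : a ≤ C.κ) (hb : b ≤ C.κ),
    b = a + 1 + d → ∀ g ∈ Sh N K (RingHom.id K) (PS (C.ia a ha) (C.ia b hb)),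
      g ∈ C.SM → g ∈ H := by
  have hN := C.hN
  intro d
  induction d with
  | zero =>
    intro a b ha hb hab
    have hab' : b = a + 1 := by omega
    subst hab'
    exact h.hX a (by omega)
  | succ d ih =>
    intro a b ha hb hab
    have ih' := ih a (b - 1) ha (by omega) (by omega)
    have hj : (b - 1) + 1 < N / 2 := by omega
    obtain ⟨n, hnH, hnS, hn⟩ := h.hn (b - 1) (by omega)
    apply good_stepM C H hnH hnS hn ih'
    intro i k hik
    apply PS_comp (rho N (b - 1)) (rho_sq (b - 1) (by omega)) (rho_rev (by omega))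
    have e1 : rho N (b - 1) (C.ia a ha) = C.ia a ha :=
      rho_fix_short hj _ (by rw [MC.ia_val]; omega) (by rw [MC.ia_val]; omega)
        (by rw [MC.ia_val]; omega) (by rw [MC.ia_val]; omega)
    have e2 : rho N (b - 1) (C.ia (b - 1) (by omega)) = C.ia b hb :=
      rho_short_up hj _ _ rfl (by rw [MC.ia_val]; omega)
    rw [e1, e2]
    exact hik

/-- the short roots `e_a`, `a ≤ κ` -/
theorem GoodM.PT_all (h : GoodM C H) : ∀ d a : ℕ, ∀ (ha : a ≤ C.κ), a + d = C.κ →
    ∀ g ∈ Sh N K (RingHom.id K) (C.PT (C.ia a ha)), g ∈ C.SM → g ∈ H := by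
  have hN := C.hN
  intro d
  induction d with
  | zero =>
    intro a ha had
    have e : a = C.κ := by omega
    subst e
    exact h.hXT
  | succ d ih =>
    intro a ha had
    have ih' := ih (a + 1) (by omega) (by omega)
    have hj : a + 1 < N / 2 := by omega
    obtain ⟨n, hnH, hnS, hn⟩ := h.hn a (by omega)
    apply good_stepM C H hnH hnS hn ih'
    intro i k hik
    have hκ : C.D.κ = C.κ := rfl
    apply PT_comp C (rho N a) (rho_sq a (by omega)) (rho_rev (by omega))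
      (Or.inl ⟨rho_fix_short hj _ (by rw [C.D.p1_val, hκ]; omega) (by rw [C.D.p1_val, hκ]; omega)
          (by rw [C.D.p1_val, hκ]; omega) (by rw [C.D.p1_val, hκ]; omega),
        rho_fix_short hj _ (by rw [C.D.p1_rev_val, hκ]; omega) (by rw [C.D.p1_rev_val, hκ]; omega)
          (by rw [C.D.p1_rev_val, hκ]; omega) (by rw [C.D.p1_rev_val, hκ]; omega)⟩)
    have e2 : rho N a (C.ia (a + 1) (by omega)) = C.ia a ha :=
      rho_short_down hj _ _ rfl rfl
    rw [e2]
    exact hik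

/-- the long roots `e_a + e_c`, `a < c ≤ κ` -/
theorem GoodM.PS_II (h : GoodM C H) : ∀ d a c : ℕ, ∀ (ha : a ≤ C.κ) (hc : c ≤ C.κ), a < c →
    c + d = C.κ → ∀ g ∈ Sh N K (RingHom.id K) (PS (C.ia a ha) (C.ia c hc).rev),
      g ∈ C.SM → g ∈ H := by
  have hN := C.hN
  intro d
  induction d with
  | zero =>
    intro a c ha hc hac hcd
    have e : c = C.κ := by omega
    subst e
    have h1 := h.PS_I (C.κ - a - 1) a C.κ ha le_rfl (by omega)
    obtain ⟨n, hnH, hnS, hn⟩ := h.hnT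
    apply good_stepM C H hnH hnS hn h1
    intro i k hik
    apply PS_comp (rhoT C) (rhoT_mul_self C) (rhoT_rev C)
    rw [rhoT_fix C _ (by rw [MC.ia_val]; exact hac), rhoT_ia]
    exact hik
  | succ d ih =>
    intro a c ha hc hac hcd
    have ih' := ih a (c + 1) ha (by omega) (by omega) (by omega)
    have hj : c + 1 < N / 2 := by omega
    obtain ⟨n, hnH, hnS, hn⟩ := h.hn c (by omega)
    apply good_stepM C H hnH hnS hn ih'
    intro i k hik
    apply PS_comp (rho N c) (rho_sq c (by omega)) (rho_rev (by omega))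
    have e1 : rho N c (C.ia a ha) = C.ia a ha :=
      rho_fix_short hj _ (by rw [MC.ia_val]; omega) (by rw [MC.ia_val]; omega)
        (by rw [MC.ia_val]; omega) (by rw [MC.ia_val]; omega)
    have e2 : rho N c (C.ia (c + 1) (by omega)).rev = (C.ia c hc).rev := by
      rw [rho_rev (by omega), rho_short_down hj _ (C.ia c hc) rfl rfl]
    rw [e1, e2]
    exact hik

/-- all the positive long root elements lie in `H` -/
theorem GoodM.PS_all (h : GoodM C H) (a b : Fin N) (hab : a < b) (hab' : a < b.rev)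
    (ha : C.NM a) (hb : C.NM b) :
    ∀ g ∈ Sh N K (RingHom.id K) (PS a b), g ∈ C.SM → g ∈ H := by
  have hN := C.hN
  have hab1 : (a : ℕ) < b := hab
  have hab2 : (a : ℕ) < (b.rev : Fin N) := hab'
  have hbr : ((b.rev : Fin N) : ℕ) = N - (b + 1) := Fin.val_rev b
  have hb2 := b.2
  obtain ⟨ha1, ha2⟩ := C.NM_val ha
  obtain ⟨hb1, hb3⟩ := C.NM_val hb
  have haκ : (a : ℕ) ≤ C.κ := by omega
  have ea : a = C.ia a haκ := Fin.ext rfl
  by_cases hbl : (b : ℕ) ≤ C.κ
  · have eb : b = C.ia b hbl := Fin.ext rfl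
    rw [ea, eb]
    exact h.PS_I ((b : ℕ) - a - 1) a b haκ hbl (by omega)
  · have hc : ((b.rev : Fin N) : ℕ) ≤ C.κ := by omega
    have eb : b = (C.ia (b.rev : Fin N) hc).rev := by
      apply Fin.ext
      rw [MC.ia_rev_val, hbr]
      omega
    rw [ea, eb]
    exact h.PS_II (C.κ - (b.rev : Fin N)) a (b.rev : Fin N) haκ hc hab2 (by omega)

/-- all the positive short root elements lie in `H` -/
theorem GoodM.PT_le (h : GoodM C H) (a : ℕ) (ha : a ≤ C.κ) :
    ∀ g ∈ Sh N K (RingHom.id K) (C.PT (C.ia a ha)), g ∈ C.SM → g ∈ H :=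
  h.PT_all (C.κ - a) a ha (by omega)

end fin

end Cfsg.Agent.Lib.Helper5.AutDM
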