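import Cfsg.Agent.Lib.Helper5.AutDM.Prop
import Mathlib

/-!
# `Ω⁻_{2κ+4}(F)`: twisted row clearing (helper5)

An upper unitriangular element of `SM = ThFix ⊓ OD` (the special orthogonal group of minus type)
is a product of positive root elements of the twisted group: long root elements `xQ q (ι t)` and
short root elements `tw a s`.  Hence `UU ⊓ SM ≤ G0` (`UM_le_G0`).
-/

set_option autoImplicit false

namespace Cfsg.Agent.Lib.Helper5.AutDM

open Matrix Cfsg Cfsg.Agent.Lib.Helper5.GLBN Cfsg.Agent.Lib.Helper8.SpBN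
open Cfsg.Agent.Lib.Helper8.Tw Cfsg.Agent.PSUT Cfsg.Agent.Lib.Helper5.AutSU
open Cfsg.Agent.Lib.Helper5.AutDO Cfsg.Agent.AutPM
open Cfsg.Agent.AutPSU (upT loT dgT moT Quad)
open Cfsg.Agent.AutPO (sO fO tO)
open scoped MatrixGroups

variable {N : ℕ} {F K : Type*} [Field F] [Field K] [Fintype K]

/-- an entry of a unitriangular isometry beyond the antidiagonal vanishes once the earlier
entries are cleared -/
theorem entry_zero_of_clear {g : SUm N K (RingHom.id K)} (hg : g ∈ UU N K (RingHom.id K))
    (hQ : g ∈ OD N K) (a b : Fin N) (hab : a < b)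
    (hclr : ∀ i k : Fin N, i < k → (i < a ∨ (i = a ∧ k < b)) →
      ((gl g : GL (Fin N) K) : Matrix (Fin N) (Fin N) K) i k = 0)
    (hba : b.rev ≤ a) : ((gl g : GL (Fin N) K) : Matrix (Fin N) (Fin N) K) a b = 0 := by
  obtain ⟨hlow, hdiag⟩ := mem_UU.1 hg
  have hrow : ∀ i : Fin N, i < a → ∀ j, j ≠ i →
      ((gl g : GL (Fin N) K) : Matrix (Fin N) (Fin N) K) i j = 0 := by
    intro i hia j hji
    rcases lt_or_gt_of_ne hji with h | h
    · exact hlow i j h
    · exact hclr i j h (Or.inl hia)
  have htail : ∀ k : Fin N, k.rev < a → a ≠ k →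
      ((gl g : GL (Fin N) K) : Matrix (Fin N) (Fin N) K) a k = 0 := by
    intro k hk hak
    have hu := row_unitary (gl_mem_UH g) a k.rev
    rw [Finset.sum_eq_single k] at hu
    · rw [hdiag, RingHom.id_apply, mul_one, Fin.rev_rev, if_neg hak] at hu
      exact hu
    · intro i _ hik
      rw [hrow k.rev hk i.rev (fun e => hik (Fin.rev_injective e)), map_zero, mul_zero]
    · intro h
      exact absurd (Finset.mem_univ _) h
  rcases lt_or_eq_of_le hba with hc | hc
  · exact htail _ hc (ne_of_lt hab)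
  · have hb : b = a.rev := by rw [← hc, Fin.rev_rev]
    subst hb
    have hrowa : ∀ k : Fin N, k ≠ a → k ≠ a.rev →
        ((gl g : GL (Fin N) K) : Matrix (Fin N) (Fin N) K) a k = 0 := by
      intro k hka hkr
      rcases lt_or_gt_of_ne hka with h | h
      · exact hlow a k h
      · rcases lt_or_gt_of_ne hkr with h' | h'
        · exact hclr a k h (Or.inr ⟨rfl, h'⟩)
        · apply htail k _ hka.symm
          have := Fin.rev_lt_rev.2 h'
          rwa [Fin.rev_rev] at this
    have hcol : ∀ i : Fin N, a < i → i < a.rev →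
        ((gl g : GL (Fin N) K) : Matrix (Fin N) (Fin N) K) i a.rev = 0 := by
      intro i hai hir
      have hu := row_unitary (gl_mem_UH g) i a
      rw [if_neg (ne_of_lt hir), Finset.sum_eq_single a.rev] at hu
      · rw [Fin.rev_rev, hdiag, RingHom.id_apply, mul_one] at hu
        exact hu
      · intro l _ hl
        by_cases hla : l = a
        · rw [hla, hlow i a hai, zero_mul]
        · rw [hrowa l.rev (fun e => hl (by rw [← e, Fin.rev_rev]))
            (fun e => hla (Fin.rev_injective e)), map_zero, mul_zero]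
      · intro h
        exact absurd (Finset.mem_univ _) h
    have hq := (mem_OD.1 hQ).col a.rev
    rw [Finset.sum_eq_single a] at hq
    · rw [if_pos hab, hdiag, mul_one] at hq
      exact hq
    · intro i _ hia
      by_cases hi : i < i.rev
      · rw [if_pos hi]
        rcases lt_or_gt_of_ne hia with h | h
        · rw [hrow i h a.rev (fun e => absurd (e ▸ hab) (not_lt.2 h.le)), zero_mul]
        · have h2 : i < a.rev := by
            have h3 := Fin.rev_lt_rev.2 h
            exact lt_trans hi h3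
          rw [hcol i h h2, zero_mul]
      · rw [if_neg hi]
    · intro h
      exact absurd (Finset.mem_univ _) h

/-- the step of the twisted row clearing -/
theorem clear_stepM (C : MC N F K) (H : Subgroup (SUm N K (RingHom.id K)))
    (h1 : ∀ a b : Fin N, a < b → a < b.rev → C.NM a → C.NM b →
      ∀ g ∈ Sh N K (RingHom.id K) (PS a b), g ∈ C.SM → g ∈ H)
    (h2 : ∀ (a : ℕ) (ha : a ≤ C.κ), ∀ g ∈ Sh N K (RingHom.id K) (C.PT (C.ia a ha)),
      g ∈ C.SM → g ∈ H)
    {g : SUm N K (RingHom.id K)} (hg : g ∈ UU N K (RingHom.id K)) (hS : g ∈ C.SM)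
    (a b : Fin N) (hab : a < b)
    (hclr : ∀ i k : Fin N, i < k → (i < a ∨ (i = a ∧ k < b)) →
      ((gl g : GL (Fin N) K) : Matrix (Fin N) (Fin N) K) i k = 0) :
    ∃ ξ ∈ H, ξ ∈ UU N K (RingHom.id K) ∧ ξ ∈ C.SM ∧ ∀ i k : Fin N, i < k →
      (i < a ∨ (i = a ∧ k ≤ b)) →
      ((gl (g * ξ) : GL (Fin N) K) : Matrix (Fin N) (Fin N) K) i k = 0 := by
  have hN := C.hN
  have hκ : C.D.κ = C.κ := rfl
  obtain ⟨hlow, hdiag⟩ := mem_UU.1 hg
  have hrow : ∀ i : Fin N, i < a → ∀ j, j ≠ i →
      ((gl g : GL (Fin N) K) : Matrix (Fin N) (Fin N) K) i j = 0 := by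
    intro i hia j hji
    rcases lt_or_gt_of_ne hji with h | h
    · exact hlow i j h
    · exact hclr i j h (Or.inl hia)
  by_cases h0 : ((gl g : GL (Fin N) K) : Matrix (Fin N) (Fin N) K) a b = 0
  · refine ⟨1, one_mem H, one_mem _, one_mem _, ?_⟩
    intro i k hik hlex
    rw [mul_one]
    rcases hlex with h | ⟨rfl, h⟩
    · exact hclr i k hik (Or.inl h)
    · rcases lt_or_eq_of_le h with h' | rfl
      · exact hclr _ k hik (Or.inr ⟨rfl, h'⟩)
      · exact h0
  · -- the entry does not vanish: the position of a root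
    have hc : a < b.rev := by
      by_contra hcon
      exact h0 (entry_zero_of_clear hg hS.2 a b hab hclr (not_lt.1 hcon))
    have hba : b < a.rev := by
      have := Fin.rev_lt_rev.2 hc
      rwa [Fin.rev_rev] at this
    have hav : (a : ℕ) < b := hab
    have hbr : ((b.rev : Fin N) : ℕ) = N - (b + 1) := Fin.val_rev b
    have hav2 : (a : ℕ) < (b.rev : Fin N) := hc
    have hb2 := b.2
    have haκ : (a : ℕ) ≤ C.κ := by
      by_contra hcon
      have h5 : (a : ℕ) = C.κ + 1 := by omega
      omega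
    have haNM : C.NM a := C.NM_of_val (by omega) (by omega)
    have ea : a = C.ia a haκ := Fin.ext rfl
    have hne : a ≠ b := ne_of_lt hab
    have hne3 : b ≠ a.rev := ne_of_lt hba
    -- the entry at `(a, p1.rev)` is the conjugate of the entry at `(a, p1)`
    have hp1r : b ≠ C.D.p1.rev := by
      intro e
      apply h0
      have h3 := C.ThFix_apply hS.1 a C.D.p1
      rw [haNM, C.tau_p1] at h3
      rw [e, ← h3, hclr a C.D.p1 (by rw [Fin.lt_def, C.D.p1_val, hκ]; omega)
        (Or.inr ⟨rfl, by rw [e, Fin.lt_def, C.D.p1_val, C.D.p1_rev_val]; omega⟩), map_zero]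
    by_cases hp1 : b = C.D.p1
    · -- a short root
      subst hp1
      obtain ⟨x, hxdef⟩ : ∃ x : K,
        ((gl g : GL (Fin N) K) : Matrix (Fin N) (Fin N) K) a C.D.p1 = x := ⟨_, rfl⟩
      have hξS : C.tw haNM (-x) ∈ C.SM := C.tw_mem_SM haNM (-x)
      have hξH : C.tw haNM (-x) ∈ H := by
        have h3 := C.tw_mem_Sh haNM (-x)
        have h4 := h2 a haκ
        rw [← ea] at h4
        exact h4 _ h3 hξS
      have hp1r' : a < C.D.p1.rev := by
        rw [Fin.lt_def, C.D.p1_rev_val, hκ]
        omega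
      refine ⟨C.tw haNM (-x), hξH, ?_, hξS, ?_⟩
      · rw [mem_UU]
        unfold MC.tw
        rw [gl_mul, Units.val_mul, gl_xQ, gl_xQ]
        exact (xS_isUpU hab (-x)).mul (xS_isUpU hp1r' _)
      · intro i k hik hlex
        rw [gl_mul, Units.val_mul, C.mul_tw_apply]
        have hp1v := C.D.p1_val
        have hp1rv := C.D.p1_rev_val
        rcases hlex with h | ⟨rfl, h⟩
        · rw [hclr i k hik (Or.inl h), hrow i h a (ne_of_gt h),
            hrow i h C.D.p1.rev (ne_of_gt (lt_trans h hp1r')),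
            hrow i h C.D.p1 (ne_of_gt (lt_trans h hab))]
          simp
        · rcases lt_or_eq_of_le h with h' | rfl
          · rw [hclr _ k hik (Or.inr ⟨rfl, h'⟩), if_neg (ne_of_lt h'),
              if_neg (ne_of_lt (lt_trans h' (by rw [Fin.lt_def, hp1v, hp1rv]; omega))),
              if_neg (ne_of_lt (lt_trans h' hba))]
            simp
          · rw [if_pos rfl, if_neg C.D.p1_ne, if_neg hne3, hdiag, one_mul, hxdef]
            simp
    · -- a long root
      have hbNM : C.NM b := C.NM_of_ne hp1 hp1r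
      have hne1 : a ≠ b.rev := ne_of_lt hc
      have q : Quad a b := quadOf C.even hne hne1
      obtain ⟨x, hxdef⟩ : ∃ x : K, ((gl g : GL (Fin N) K) : Matrix (Fin N) (Fin N) K) a b = x :=
        ⟨_, rfl⟩
      have hxfix : C.cj x = x := by
        have h3 := C.ThFix_apply hS.1 a b
        rw [haNM, hbNM, hxdef] at h3
        exact h3
      obtain ⟨t, ht⟩ := C.hfix x hxfix
      have hξ : xQ q (-x) = xQ q (C.ι (-t)) := by
        rw [map_neg, ht]
      have hξS : xQ q (-x) ∈ C.SM := by
        rw [hξ]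
        exact C.xQ_long_mem_SM q haNM hbNM (-t)
      have hm : b ≠ b.rev := q.h11
      refine ⟨xQ q (-x), h1 a b hab hc haNM hbNM _ (xQ_mem_Sh q (-x)) hξS, ?_, hξS, ?_⟩
      · rw [mem_UU, gl_xQ]
        exact xS_isUpU hab (-x)
      · intro i k hik hlex
        rw [gl_mul, Units.val_mul, gl_xQ, mul_xS_apply _ (RingHom.id K) a b hne hm]
        rcases hlex with h | ⟨rfl, h⟩
        · rw [hclr i k hik (Or.inl h), hrow i h a (ne_of_gt h),
            hrow i h b.rev (ne_of_gt (lt_trans h hc))]
          simp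
        · rcases lt_or_eq_of_le h with h' | rfl
          · rw [hclr _ k hik (Or.inr ⟨rfl, h'⟩), if_neg (ne_of_lt h'),
              if_neg (ne_of_lt (lt_trans h' hba)), add_zero, add_zero]
          · rw [if_pos rfl, if_neg hne3, hdiag, one_mul, hxdef, add_zero]
            exact add_neg_cancel x

/-- the upper unitriangular elements of the special orthogonal group of minus type lie in every
subgroup which contains the positive root elements -/
theorem UM_le (C : MC N F K) (H : Subgroup (SUm N K (RingHom.id K)))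
    (h1 : ∀ a b : Fin N, a < b → a < b.rev → C.NM a → C.NM b →
      ∀ g ∈ Sh N K (RingHom.id K) (PS a b), g ∈ C.SM → g ∈ H)
    (h2 : ∀ (a : ℕ) (ha : a ≤ C.κ), ∀ g ∈ Sh N K (RingHom.id K) (C.PT (C.ia a ha)),
      g ∈ C.SM → g ∈ H) :
    UU N K (RingHom.id K) ⊓ C.SM ≤ H := by
  have key : ∀ m n : ℕ, n + m = N * N → ∀ g ∈ UU N K (RingHom.id K), g ∈ C.SM →
      Clr n ((gl g : GL (Fin N) K) : Matrix (Fin N) (Fin N) K) → g ∈ H := by
    intro m
    induction m with
    | zero =>
      intro n hn g hg _ hclr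
      have e : g = 1 := by
        apply gl_injective
        apply Units.ext
        rw [gl_one, Units.val_one]
        ext i k
        rcases lt_trichotomy i k with h | h | h
        · rw [Matrix.one_apply_ne (ne_of_lt h)]
          apply hclr i k h
          have hi := i.2
          have hk := k.2
          have h5 : ((i : ℕ) + 1) * N ≤ N * N := Nat.mul_le_mul_right N hi
          have e5 : ((i : ℕ) + 1) * N = (i : ℕ) * N + N := by ring
          omega
        · rw [h, (mem_UU.1 hg).2, Matrix.one_apply_eq]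
        · rw [(mem_UU.1 hg).1 i k h, Matrix.one_apply_ne (ne_of_gt h)]
      rw [e]
      exact one_mem H
    | succ m ih =>
      intro n hn g hg hQ hclr
      have hnlt : n < N * N := by omega
      have hN : 0 < N := by
        rcases Nat.eq_zero_or_pos N with h | h
        · subst h
          simp at hnlt
        · exact h
      have ha : n / N < N := Nat.div_lt_of_lt_mul hnlt
      have hb : n % N < N := Nat.mod_lt _ hN
      have hcode : (n / N) * N + n % N = n := Nat.div_add_mod' n N
      have hclr' : Clr (((⟨n / N, ha⟩ : Fin N) : ℕ) * N + ((⟨n % N, hb⟩ : Fin N) : ℕ))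
          ((gl g : GL (Fin N) K) : Matrix (Fin N) (Fin N) K) := by
        show Clr ((n / N) * N + n % N) _
        rw [hcode]
        exact hclr
      have hsucc : ∀ g' : SUm N K (RingHom.id K), g' ∈ UU N K (RingHom.id K) → g' ∈ C.SM →
          (∀ i k : Fin N, i < k → (i < (⟨n / N, ha⟩ : Fin N) ∨
            (i = (⟨n / N, ha⟩ : Fin N) ∧ k ≤ (⟨n % N, hb⟩ : Fin N))) →
            ((gl g' : GL (Fin N) K) : Matrix (Fin N) (Fin N) K) i k = 0) → g' ∈ H := by
        intro g' hg' hQ' h
        apply ih (n + 1) (by omega) g' hg' hQ'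
        have := clr_succ (a := (⟨n / N, ha⟩ : Fin N)) (b := (⟨n % N, hb⟩ : Fin N)) h
        have e : ((⟨n / N, ha⟩ : Fin N) : ℕ) * N + ((⟨n % N, hb⟩ : Fin N) : ℕ) + 1 = n + 1 := by
          show (n / N) * N + n % N + 1 = n + 1
          rw [hcode]
        rwa [e] at this
      by_cases hab : (⟨n / N, ha⟩ : Fin N) < ⟨n % N, hb⟩
      · obtain ⟨ξ, hξH, hξU, hξQ, hξ⟩ := clear_stepM C H h1 h2 hg hQ _ _ hab
          (fun i k hik hlex => clr_use hclr' i k hik hlex)
        have h5 := hsucc (g * ξ) (mul_mem hg hξU) (mul_mem hQ hξQ) hξ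
        have e : g = g * ξ * ξ⁻¹ := by group
        rw [e]
        exact mul_mem h5 (inv_mem hξH)
      · apply hsucc g hg hQ
        intro i k hik hlex
        rcases hlex with hl | ⟨rfl, hl⟩
        · exact clr_use hclr' i k hik (Or.inl hl)
        · rcases lt_or_eq_of_le hl with hl' | rfl
          · exact clr_use hclr' _ k hik (Or.inr ⟨rfl, hl'⟩)
          · exact absurd hik hab
  rintro g ⟨hg, hQ⟩
  exact key (N * N) 0 (by omega) g hg hQ (fun i k _ h => absurd h (Nat.not_lt_zero _))

/-- the model contains the fundamental positive root elements and the monomial elements -/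
theorem goodM_G0 (C : MC N F K) : GoodM C C.G0 where
  hn j hj := ⟨nS j (C.hj_of_lt hj), nS_mem_G0 C j hj, C.G0_le_SM (nS_mem_G0 C j hj),
    isMono_nS j _⟩
  hnT := ⟨nT C, nT_mem_G0 C, C.G0_le_SM (nT_mem_G0 C), isMono_nT C⟩
  hX := by
    intro j hj g hg hS
    have hN := C.hN
    have hg' : g ∈ Xp N K (RingHom.id K) j := sh_PS_le_Xp (C.hj_of_lt hj) hg
    obtain ⟨c, rfl⟩ := (mem_Xp_short_iff idinv (C.hj_of_lt hj)).1 hg'
    have e1 : (xpS idinv j (C.hj_of_lt hj) c : SUm N K (RingHom.id K))
        = xQ (C.quadC j hj) c := rfl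
    have hent : ((gl (xQ (C.quadC j hj) c) : GL (Fin N) K) : Matrix (Fin N) (Fin N) K)
        (C.ia j (le_of_lt hj)) (C.ia (j + 1) hj) = c := by
      rw [gl_xQ]
      exact xS_apply_self _ _ _ _ (C.quadC j hj).h11 (fun e => (C.quadC j hj).h01 e.symm) c
    have hfix : C.cj c = c := by
      have h3 := C.ThFix_apply hS.1 (C.ia j (le_of_lt hj)) (C.ia (j + 1) hj)
      rw [C.NM_ia j (le_of_lt hj), C.NM_ia (j + 1) hj, e1, hent] at h3
      exact h3
    obtain ⟨t, rfl⟩ := C.hfix c hfix
    rw [e1, ← C.sM_upT j hj t]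
    exact C.sM_mem_G0 j hj _
  hXT := by
    intro g hg hS
    rw [C.sh_PT_eq (C.NM_ia C.κ le_rfl) hg hS, ← C.tM_upT]
    exact C.tM_mem_G0 _

/-- **twisted row clearing**: the upper unitriangular elements of the special orthogonal group
of minus type lie in the model -/
theorem UM_le_G0 (C : MC N F K) : UU N K (RingHom.id K) ⊓ C.SM ≤ C.G0 :=
  UM_le C C.G0 (fun a b hab hab' ha hb => (goodM_G0 C).PS_all a b hab hab' ha hb)
    (fun a ha => (goodM_G0 C).PT_le a ha)

/-- the unitriangular elements of the model -/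
theorem UU_inf_G0 (C : MC N F K) :
    UU N K (RingHom.id K) ⊓ C.G0 = UU N K (RingHom.id K) ⊓ C.SM :=
  le_antisymm (fun _ hg => ⟨hg.1, C.G0_le_SM hg.2⟩) (fun _ hg => ⟨hg.1, UM_le_G0 C hg⟩)

end Cfsg.Agent.Lib.Helper5.AutDM
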