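import Cfsg.Agent.Lib.Helper5.AutDM.Opp1
import Mathlib

/-!
# `Ω⁻_{2κ+4}(F)`: the Weyl group of the model (helper5)

Every permutation of the coordinates which commutes with the reversal and with the swap `tau` of
the two middle coordinates lies in the Weyl group `WM` of the model (type `B_{κ+1}`) or in
`WM * tau` (`mem_WM_or`); hence it, or its product with `tau`, is the permutation of a monomial
element of the model (`exists_mono_lift`).
-/

set_option autoImplicit false

namespace Cfsg.Agent.Lib.Helper5.AutDM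

open Matrix Cfsg Cfsg.Agent.Lib.Helper5.GLBN Cfsg.Agent.Lib.Helper8.SpBN
open Cfsg.Agent.Lib.Helper8.Tw Cfsg.Agent.PSUT Cfsg.Agent.Lib.Helper5.AutSU
open Cfsg.Agent.Lib.Helper5.AutDO Cfsg.Agent.AutPM
open scoped MatrixGroups

variable {N : ℕ} {F K : Type*} [Field F] [Field K] [Fintype K]

/-- the elements of the Weyl group of the model commute with the reversal -/
theorem WM_rev (C : MC N F K) {w : Equiv.Perm (Fin N)} (hw : w ∈ WM C) (x : Fin N) :
    w x.rev = (w x).rev := by
  obtain ⟨n, -, hn⟩ := exists_lift C hw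
  exact perm_rev C hn x

/-- the elements of the Weyl group of the model commute with the swap of the two middle
coordinates -/
theorem WM_tau (C : MC N F K) {w : Equiv.Perm (Fin N)} (hw : w ∈ WM C) (x : Fin N) :
    w (C.D.tau x) = C.D.tau (w x) := by
  obtain ⟨n, -, hn⟩ := exists_lift C hw
  exact perm_tau C hn x

/-- moving a coordinate of the first half down -/
theorem move1 (C : MC N F K) (t : ℕ) : ∀ (d : ℕ) (y : Fin N), (y : ℕ) = t + d → t + d ≤ C.κ →
    ∃ w ∈ WM C, ((w y : Fin N) : ℕ) = t ∧ ∀ x : Fin N, (x : ℕ) < t → w x = x := by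
  have hN := C.hN
  intro d
  induction d with
  | zero =>
    intro y hy _
    exact ⟨1, one_mem _, by rw [Equiv.Perm.one_apply, hy, add_zero], fun x _ => rfl⟩
  | succ d ih =>
    intro y hy hle
    have hj : t + d + 1 < N / 2 := by omega
    have hy' : ((rho N (t + d) y : Fin N) : ℕ) = t + d := by
      rw [rho_val_short hj]
      split_ifs <;> omega
    obtain ⟨w, hw, h1, h2⟩ := ih (rho N (t + d) y) hy' (by omega)
    refine ⟨w * rho N (t + d), mul_mem hw (rho_mem_WM C _ (by omega)), ?_, ?_⟩
    · rw [Equiv.Perm.mul_apply]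
      exact h1
    · intro x hx
      have hxN := x.2
      rw [Equiv.Perm.mul_apply, rho_fix_short hj x (by omega) (by omega) (by omega) (by omega)]
      exact h2 x hx

/-- moving a coordinate of the second half down -/
theorem move2 (C : MC N F K) (t : ℕ) (ht : t ≤ C.κ) : ∀ (d : ℕ) (y : Fin N),
    (y : ℕ) = C.κ + 3 + d → C.κ + 3 + d + t + 1 ≤ N →
    ∃ w ∈ WM C, ((w y : Fin N) : ℕ) = t ∧ ∀ x : Fin N, (x : ℕ) < t → w x = x := by
  have hN := C.hN
  intro d
  induction d with
  | zero =>
    intro y hy _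
    have hy' : ((rhoT C y : Fin N) : ℕ) = t + (C.κ - t) := by
      rw [rhoT_val]
      split_ifs <;> omega
    obtain ⟨w, hw, h1, h2⟩ := move1 C t (C.κ - t) (rhoT C y) hy' (by omega)
    refine ⟨w * rhoT C, mul_mem hw (rhoT_mem_WM C), ?_, ?_⟩
    · rw [Equiv.Perm.mul_apply]
      exact h1
    · intro x hx
      rw [Equiv.Perm.mul_apply, rhoT_fix C x (by omega)]
      exact h2 x hx
  | succ d ih =>
    intro y hy hle
    have hj : C.κ - 1 - d + 1 < N / 2 := by omega
    have hy' : ((rho N (C.κ - 1 - d) y : Fin N) : ℕ) = C.κ + 3 + d := by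
      rw [rho_val_short hj]
      split_ifs <;> omega
    obtain ⟨w, hw, h1, h2⟩ := ih (rho N (C.κ - 1 - d) y) hy' (by omega)
    refine ⟨w * rho N (C.κ - 1 - d), mul_mem hw (rho_mem_WM C _ (by omega)), ?_, ?_⟩
    · rw [Equiv.Perm.mul_apply]
      exact h1
    · intro x hx
      have hxN := x.2
      rw [Equiv.Perm.mul_apply, rho_fix_short hj x (by omega) (by omega) (by omega) (by omega)]
      exact h2 x hx

/-- a permutation commuting with the reversal and the swap can be brought, by the Weyl group of
the model, to fix the first coordinates -/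
theorem exists_fix (C : MC N F K) (π : Equiv.Perm (Fin N)) (hrev : ∀ x, π x.rev = (π x).rev)
    (htau : ∀ x, π (C.D.tau x) = C.D.tau (π x)) : ∀ t, t ≤ C.κ + 1 →
    ∃ w ∈ WM C, ∀ x : Fin N, (x : ℕ) < t → (w * π) x = x := by
  have hN := C.hN
  intro t
  induction t with
  | zero =>
    intro _
    exact ⟨1, one_mem _, fun x hx => absurd hx (Nat.not_lt_zero _)⟩
  | succ t ih =>
    intro ht
    obtain ⟨w, hw, hfix⟩ := ih (by omega)
    have hrev' : ∀ x, (w * π) x.rev = ((w * π) x).rev := by
      intro x
      rw [Equiv.Perm.mul_apply, Equiv.Perm.mul_apply, hrev, WM_rev C hw]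
    have htau' : ∀ x, (w * π) (C.D.tau x) = C.D.tau ((w * π) x) := by
      intro x
      rw [Equiv.Perm.mul_apply, Equiv.Perm.mul_apply, htau, WM_tau C hw]
    have htN : t < N := by omega
    obtain ⟨y, hy⟩ : ∃ y : Fin N, y = (w * π) ⟨t, htN⟩ := ⟨_, rfl⟩
    have hyN := y.2
    -- `t ≤ y`
    have hy1 : t ≤ (y : ℕ) := by
      by_contra hcon
      have h1 := hfix y (by omega)
      have h2 : y = ⟨t, htN⟩ := (w * π).injective (by rw [h1, hy])
      have := congrArg Fin.val h2
      simp only at this
      omega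
    -- `y ≤ N - 1 - t`
    have hy2 : (y : ℕ) + t + 1 ≤ N := by
      by_contra hcon
      have hyr : ((y.rev : Fin N) : ℕ) = N - (y + 1) := Fin.val_rev y
      have h1 := hfix y.rev (by omega)
      rw [hrev'] at h1
      have h1' : (w * π) y = y := Fin.rev_injective h1
      have h2 : y = ⟨t, htN⟩ := (w * π).injective (by rw [h1', hy])
      have := congrArg Fin.val h2
      simp only at this
      omega
    -- `y` is not in the middle
    have hy3 : (y : ℕ) ≠ C.κ + 1 ∧ (y : ℕ) ≠ C.κ + 2 := by
      have hκ : C.D.κ = C.κ := rfl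
      constructor
      · intro e
        have e' : (w * π) ⟨t, htN⟩ = C.D.p1 := by
          rw [← hy]
          exact Fin.ext (by rw [e, C.D.p1_val, hκ])
        have := mid_of_perm C htau' (k := ⟨t, htN⟩) (Or.inl e')
        simp only at this
        omega
      · intro e
        have e' : (w * π) ⟨t, htN⟩ = C.D.p1.rev := by
          rw [← hy]
          exact Fin.ext (by rw [e, C.D.p1_rev_val, hκ])
        have := mid_of_perm C htau' (k := ⟨t, htN⟩) (Or.inr e')
        simp only at this
        omega
    have hmove : ∃ w' ∈ WM C, ((w' y : Fin N) : ℕ) = t ∧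
        ∀ x : Fin N, (x : ℕ) < t → w' x = x := by
      rcases Nat.lt_or_ge (y : ℕ) (C.κ + 1) with h | h
      · exact move1 C t ((y : ℕ) - t) y (by omega) (by omega)
      · exact move2 C t (by omega) ((y : ℕ) - (C.κ + 3)) y (by omega) (by omega)
    obtain ⟨w', hw', h1, h2⟩ := hmove
    refine ⟨w' * w, mul_mem hw' hw, ?_⟩
    intro x hx
    rw [mul_assoc, Equiv.Perm.mul_apply]
    rcases Nat.lt_or_ge (x : ℕ) t with h | h
    · rw [hfix x h]
      exact h2 x h
    · have ex : x = ⟨t, htN⟩ := Fin.ext (by simp only; omega)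
      rw [ex, ← hy]
      exact Fin.ext h1

/-- the Weyl group of the model has index two in the centraliser of the reversal and the swap -/
theorem mem_WM_or (C : MC N F K) (π : Equiv.Perm (Fin N)) (hrev : ∀ x, π x.rev = (π x).rev)
    (htau : ∀ x, π (C.D.tau x) = C.D.tau (π x)) : π ∈ WM C ∨ π * C.D.tau ∈ WM C := by
  have hN := C.hN
  have hκ : C.D.κ = C.κ := rfl
  obtain ⟨w, hw, hfix⟩ := exists_fix C π hrev htau (C.κ + 1) le_rfl
  have hrev' : ∀ x, (w * π) x.rev = ((w * π) x).rev := by
    intro x
    rw [Equiv.Perm.mul_apply, Equiv.Perm.mul_apply, hrev, WM_rev C hw]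
  -- the other half is fixed as well
  have hfix2 : ∀ x : Fin N, C.κ + 3 ≤ (x : ℕ) → (w * π) x = x := by
    intro x hx
    have hxN := x.2
    have hxr : ((x.rev : Fin N) : ℕ) = N - (x + 1) := Fin.val_rev x
    have h1 := hfix x.rev (by omega)
    rw [hrev'] at h1
    exact Fin.rev_injective h1
  have hp1v := C.D.p1_val
  have hp1rv := C.D.p1_rev_val
  -- the image of the first middle coordinate
  have hmid : (w * π) C.D.p1 = C.D.p1 ∨ (w * π) C.D.p1 = C.D.p1.rev := by
    obtain ⟨z, hz⟩ : ∃ z : Fin N, z = (w * π) C.D.p1 := ⟨_, rfl⟩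
    have hzN := z.2
    rw [← hz]
    by_contra hcon
    have hcon' := not_or.1 hcon
    have h1 : (z : ℕ) ≠ C.κ + 1 := fun e => hcon'.1 (Fin.ext (by omega))
    have h2 : (z : ℕ) ≠ C.κ + 2 := fun e => hcon'.2 (Fin.ext (by omega))
    have h3 : (w * π) z = z := by
      rcases Nat.lt_or_ge (z : ℕ) (C.κ + 1) with h | h
      · exact hfix z h
      · exact hfix2 z (by omega)
    have h4 : z = C.D.p1 := (w * π).injective (by rw [h3, hz])
    exact hcon'.1 h4
  rcases hmid with h | h
  · -- `w * π = 1`
    left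
    have e : w * π = 1 := by
      apply Equiv.ext
      intro x
      rw [Equiv.Perm.one_apply]
      have hxN := x.2
      rcases Nat.lt_or_ge (x : ℕ) (C.κ + 1) with h1 | h1
      · exact hfix x h1
      · rcases Nat.lt_or_ge (x : ℕ) (C.κ + 3) with h2 | h2
        · rcases Nat.lt_or_ge (x : ℕ) (C.κ + 2) with h3 | h3
          · have ex : x = C.D.p1 := Fin.ext (by omega)
            rw [ex, h]
          · have ex : x = C.D.p1.rev := Fin.ext (by omega)
            rw [ex, hrev', h]
        · exact hfix2 x h2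
    have e' : π = w⁻¹ := eq_inv_of_mul_eq_one_right e
    rw [e']
    exact inv_mem hw
  · -- `w * π = tau`
    right
    have e : w * π = C.D.tau := by
      apply Equiv.ext
      intro x
      have hxN := x.2
      rcases Nat.lt_or_ge (x : ℕ) (C.κ + 1) with h1 | h1
      · rw [hfix x h1, C.D.tau_fix x (by omega) (by omega)]
      · rcases Nat.lt_or_ge (x : ℕ) (C.κ + 3) with h2 | h2
        · rcases Nat.lt_or_ge (x : ℕ) (C.κ + 2) with h3 | h3
          · have ex : x = C.D.p1 := Fin.ext (by omega)
            rw [ex, h, C.tau_p1]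
          · have ex : x = C.D.p1.rev := Fin.ext (by omega)
            rw [ex, hrev', h, C.tau_p1_rev, Fin.rev_rev]
        · rw [hfix2 x h2, C.D.tau_fix x (by omega) (by omega)]
    have e' : π * C.D.tau = w⁻¹ := by
      have h1 : π = w⁻¹ * C.D.tau := by
        rw [← e]
        group
      rw [h1, mul_assoc, C.D.tau_mul_self, mul_one]
    rw [e']
    exact inv_mem hw

/-- **the Weyl lemma with lift**: a permutation commuting with the reversal and the swap of the
two middle coordinates is, up to the swap, the permutation of a monomial element of the model -/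
theorem exists_mono_lift (C : MC N F K) (π : Equiv.Perm (Fin N))
    (hrev : ∀ x, π x.rev = (π x).rev) (htau : ∀ x, π (C.D.tau x) = C.D.tau (π x)) :
    ∃ n : SUm N K (RingHom.id K), n ∈ C.G0 ∧
      (IsMono ((gl n : GL (Fin N) K) : Matrix (Fin N) (Fin N) K) π ∨
        IsMono ((gl n : GL (Fin N) K) : Matrix (Fin N) (Fin N) K) (π * C.D.tau)) := by
  rcases mem_WM_or C π hrev htau with h | h
  · obtain ⟨n, -, hn⟩ := exists_lift C h
    exact ⟨n.1, n.2, Or.inl hn⟩
  · obtain ⟨n, -, hn⟩ := exists_lift C h
    exact ⟨n.1, n.2, Or.inr hn⟩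

/-- the Weyl lemma with lift, for permutations given by the conjugation conditions -/
theorem exists_mono_lift' (C : MC N F K) (π : Equiv.Perm (Fin N))
    (hrev : revC π = π) (htau : C.D.tau * π * C.D.tau = π) :
    ∃ n : SUm N K (RingHom.id K), n ∈ C.G0 ∧
      (IsMono ((gl n : GL (Fin N) K) : Matrix (Fin N) (Fin N) K) π ∨
        IsMono ((gl n : GL (Fin N) K) : Matrix (Fin N) (Fin N) K) (π * C.D.tau)) := by
  apply exists_mono_lift C π ((revC_eq_self_iff π).1 hrev)
  intro x
  have h := congrArg (fun p : Equiv.Perm (Fin N) => p x) htau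
  beta_reduce at h
  rw [Equiv.Perm.mul_apply, Equiv.Perm.mul_apply] at h
  rw [← h, C.D.tau_tau]

end Cfsg.Agent.Lib.Helper5.AutDM
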